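import Cfsg.Agent.Lib.StrongClosedNC.ModFusion
import Cfsg.Agent.Lib.PReduced.Local
import Cfsg.Agent.Lib.Coprime.Basic
import Mathlib.GroupTheory.Focal
/-!
# Strongly closed subgroups: quotients and transfer (owner: helper2)

* `map_stronglyClosed` : images in quotients
* `normal_closure_le_sup` : a normal closure is the product with its derived subgroup
* `inf_normalClosure_le` : transfer into `(T ∩ K) / A`
-/

set_option autoImplicit false
set_option linter.style.haveILetI false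
set_option linter.unusedSectionVars false

namespace Cfsg.Agent.StrongClosedNC

open Subgroup
open scoped commutatorElement

variable {G : Type*} [Group G] [Finite G] {T : Sylow 2 G} {S : Subgroup G}

/-- An element of `T N` of 2-power order has a conjugate by `T N` in `T`. -/
theorem exists_conj_mem (T : Sylow 2 G) {N : Subgroup G} {v : G} (hv : v ∈ (T : Subgroup G) ⊔ N)
    (h2 : IsPGroup 2 (zpowers v)) :
    ∃ w ∈ (T : Subgroup G) ⊔ N, w * v * w⁻¹ ∈ (T : Subgroup G) := by
  haveI : Fact (Nat.Prime 2) := ⟨Nat.prime_two⟩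
  set W := (T : Subgroup G) ⊔ N
  obtain ⟨R, hR⟩ := (h2.comap_subtype (K := W)).exists_le_sylow
  obtain ⟨w, hw⟩ := MulAction.exists_smul_eq W R (T.subtype (le_sup_left : (T : Subgroup G) ≤ W))
  refine ⟨w, w.2, ?_⟩
  have h1 : w * ⟨v, hv⟩ * w⁻¹ ∈ ((w • R : Sylow 2 W) : Subgroup W) :=
    ⟨_, hR (mem_subgroupOf.2 (mem_zpowers v)), rfl⟩
  rw [hw, Sylow.coe_subtype, mem_subgroupOf] at h1
  exact h1

/-- The image of a strongly closed subgroup in a quotient is strongly closed. -/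
theorem map_stronglyClosed {H : Type*} [Group H] (hS : Cfsg.IsStronglyClosed S (T : Subgroup G))
    (f : G →* H) (hf : Function.Surjective f) :
    Cfsg.IsStronglyClosed (S.map f) ((T : Subgroup G).map f) := by
  refine ⟨map_mono hS.1, ?_⟩
  rintro _ ⟨x, hx, rfl⟩ g' hg'
  obtain ⟨g, rfl⟩ := hf g'
  obtain ⟨t, ht, hte⟩ := hg'
  have hv : g * x * g⁻¹ ∈ (T : Subgroup G) ⊔ f.ker := by
    have h1 : t⁻¹ * (g * x * g⁻¹) ∈ f.ker := by
      rw [MonoidHom.mem_ker, map_mul, map_inv, hte]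
      simp only [map_mul, map_inv]
      group
    have := mul_mem (mem_sup_left ht : t ∈ (T : Subgroup G) ⊔ f.ker) (mem_sup_right h1)
    rwa [mul_inv_cancel_left] at this
  have h2 : IsPGroup 2 (zpowers (g * x * g⁻¹)) := by
    have := ((T.isPGroup'.to_le hS.1).to_le (zpowers_le.2 hx)).map (MulAut.conj g).toMonoidHom
    rwa [MonoidHom.map_zpowers] at this
  obtain ⟨w, hw, hwv⟩ := exists_conj_mem T hv h2
  rw [show w * (g * x * g⁻¹) * w⁻¹ = (w * g) * x * (w * g)⁻¹ by group] at hwv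
  have hs := hS.2 x hx _ hwv
  rw [sup_comm, ← SetLike.mem_coe, Subgroup.normal_mul] at hw
  obtain ⟨k, hk, u, hu, rfl⟩ := hw
  have hu' := (mem_normalizer_iff.1 (inv_mem (sylow_le_normalizer hS hu)) _).1 hs
  refine ⟨_, hu', ?_⟩
  have hk1 : f k = 1 := hk
  simp only [map_mul, map_inv, hk1, one_mul, mul_inv_rev, inv_inv]
  group

variable (hS : Cfsg.IsStronglyClosed S (T : Subgroup G))

include hS in
/-- The normal closure `K` of `S` is `K' S`. -/
theorem normalClosure_le_sup :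
    normalClosure (S : Set G) ≤ (commutator ↥(normalClosure (S : Set G))).map
      (normalClosure (S : Set G)).subtype ⊔ S := by
  haveI : Fact (Nat.Prime 2) := ⟨Nat.prime_two⟩
  set K := normalClosure (S : Set G)
  have hSK : S ≤ K := subset_normalClosure
  have hTK : (T : Subgroup G) ≤ normalizer (K : Set G) := by
    rw [normalizer_eq_top]; exact le_top
  obtain ⟨P, hP⟩ := PReduced.exists_sylow_inf T hTK
  set D : Subgroup G := (commutator ↥K).map K.subtype ⊔ S with hD
  have hDK : D ≤ K := sup_le (map_subtype_le _) hSK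
  have hKD : K ≤ normalizer (D : Set G) := by
    intro k hk
    refine mem_normalizer_of_maps fun d hd => ?_
    have h1 : k * d * k⁻¹ * d⁻¹ ∈ D :=
      mem_sup_left ⟨⁅(⟨k, hk⟩ : K), ⟨d, hDK hd⟩⁆,
        commutator_mem_commutator (mem_top _) (mem_top _), rfl⟩
    have := mul_mem h1 hd
    rwa [inv_mul_cancel_right] at this
  refine (closure_le _).2 fun y hy => ?_
  obtain ⟨a, ha, hconj⟩ := Group.mem_conjugatesOfSet_iff.1 hy
  obtain ⟨g, rfl⟩ := isConj_iff.1 hconj
  have htop := Sylow.normalizer_sup_eq_top P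
  have hg : g ∈ K ⊔ normalizer ((P : Subgroup ↥K).map K.subtype : Set G) := by
    rw [sup_comm]; exact htop.ge (mem_top g)
  rw [← SetLike.mem_coe, Subgroup.normal_mul] at hg
  obtain ⟨n, hn, m, hm, rfl⟩ := hg
  have hmap : (P : Subgroup ↥K).map K.subtype = (T : Subgroup G) ⊓ K := by
    rw [hP, subgroupOf_map_subtype]
  have haT : a ∈ (P : Subgroup ↥K).map K.subtype := by rw [hmap]; exact ⟨hS.1 ha, hSK ha⟩
  have hma := (mem_normalizer_iff.1 hm a).1 haT
  rw [hmap] at hma
  rw [show n * m * a * (n * m)⁻¹ = n * (m * a * m⁻¹) * n⁻¹ by group]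
  exact (mem_normalizer_iff.1 (hKD hn) _).1 (mem_sup_right (hS.2 a ha m hma.1))

include hS in
/-- Transfer: if fusion in `K = ⟨S^G⟩` is trivial modulo `A ⊇ S`, then `T ∩ K ≤ A`. -/
theorem inf_normalClosure_le {A : Subgroup G} (hSA : S ≤ A)
    (hA : ∀ k ∈ normalClosure (S : Set G), ∀ x ∈ (T : Subgroup G), x ∈ normalClosure (S : Set G) →
      k * x * k⁻¹ ∈ (T : Subgroup G) → x * (k * x * k⁻¹)⁻¹ ∈ A) :
    (T : Subgroup G) ⊓ normalClosure (S : Set G) ≤ A := by
  haveI : Fact (Nat.Prime 2) := ⟨Nat.prime_two⟩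
  set K := normalClosure (S : Set G)
  have hSK : S ≤ K := subset_normalClosure
  have hTK : (T : Subgroup G) ≤ normalizer (K : Set G) := by
    rw [normalizer_eq_top]; exact le_top
  obtain ⟨P, hP⟩ := PReduced.exists_sylow_inf T hTK
  have hfoc : ((P : Subgroup ↥K).focalSubgroup).map K.subtype ≤ A := by
    rw [focalSubgroup_def, MonoidHom.map_closure, closure_le]
    rintro _ ⟨_, ⟨hwP, x, hxP, u, rfl⟩, rfl⟩
    rw [hP, mem_subgroupOf] at hwP hxP
    have hw : (x : G) * (u : G) * (x : G)⁻¹ * (u : G)⁻¹ ∈ (T : Subgroup G) := hwP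
    have hu : (u : G) * (x : G) * (u : G)⁻¹ ∈ (T : Subgroup G) := by
      have h := inv_mem (mul_mem (inv_mem hxP) hw)
      rwa [show ((x : G)⁻¹ * ((x : G) * (u : G) * (x : G)⁻¹ * (u : G)⁻¹))⁻¹
        = (u : G) * (x : G) * (u : G)⁻¹ by group] at h
    have h := hA u u.2 x hxP x.2 hu
    show (x : G) * (u : G) * (x : G)⁻¹ * (u : G)⁻¹ ∈ A
    rwa [show (x : G) * ((u : G) * (x : G) * (u : G)⁻¹)⁻¹
      = (x : G) * (u : G) * (x : G)⁻¹ * (u : G)⁻¹ by group] at h
  rintro x ⟨hxT, hxK⟩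
  have hnorm : S ≤ normalizer ((commutator ↥K).map K.subtype : Set G) :=
    hSK.trans (Subgroup.le_normalizer.trans (Cores.normalizer_le_normalizer_map (commutator ↥K)))
  obtain ⟨d, hdm, s, hs, rfl⟩ := (Coprime.mem_sup_iff hnorm).1 (normalClosure_le_sup hS hxK)
  obtain ⟨d', hd', rfl⟩ := hdm
  refine mul_mem (hfoc ⟨d', ?_, rfl⟩) (hSA hs)
  rw [← commutator_inf_eq_focalSubgroup P]
  refine ⟨hd', ?_⟩
  rw [hP]
  show (d' : G) ∈ (T : Subgroup G)
  have := (T : Subgroup G).mul_mem hxT ((T : Subgroup G).inv_mem (hS.1 hs))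
  rwa [mul_inv_cancel_right] at this

end Cfsg.Agent.StrongClosedNC
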