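import Cfsg.Agent.S0016
import Cfsg.Agent.S3742
/-!
# Automorphisms of 2-groups with one involution (owner: helper2)

* `sq_eq_one_of_central` : in a noncyclic one the central elements square to `1`
* `exists_inner` : an automorphism conjugate to one in a 2-group `P` of automorphisms of it, and
  itself in `P`, differs from that one by an inner automorphism
-/

set_option autoImplicit false
set_option linter.style.haveILetI false

namespace Cfsg.Agent.StrongClosedNC

open QuaternionGroup

/-- A central element of a generalised quaternion group squares to `1`. -/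
theorem quaternion_central_sq {n : ℕ} (hn : 1 ≤ n) {c : QuaternionGroup (2 ^ n)}
    (hc : ∀ x, c * x = x * c) : c * c = 1 := by
  cases c with
  | a i =>
    have h := hc (xa 0)
    rw [a_mul_xa, xa_mul_a, xa.injEq, zero_sub, zero_add] at h
    rw [a_mul_a, ← a_zero, a.injEq]
    nth_rw 1 [← h]
    exact neg_add_cancel i
  | xa i =>
    exfalso
    have h := hc (a 1)
    rw [xa_mul_a, a_mul_xa, xa.injEq] at h
    have h2 : ((2 : ℕ) : ZMod (2 * 2 ^ n)) = 0 := by
      push_cast
      linear_combination h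
    have h3 := (ZMod.natCast_eq_zero_iff _ _).1 h2
    have h4 := Nat.le_of_dvd two_pos h3
    have h5 : 2 ≤ 2 ^ n := by
      calc 2 = 2 ^ 1 := rfl
        _ ≤ 2 ^ n := Nat.pow_le_pow_right (by norm_num) hn
    omega

/-- In generalised quaternion groups of order at least 16 commutators of automorphisms are inner. -/
theorem quaternion_commutator_inner {m : ℕ} [NeZero m] (hm4 : 4 ≤ m)
    (α β : MulAut (QuaternionGroup m)) :
    β * α * β⁻¹ * α⁻¹ ∈
      (MulAut.conj : QuaternionGroup m →* MulAut (QuaternionGroup m)).range := by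
  -- the images of the generators
  have hgen : ∀ γ : MulAut (QuaternionGroup m), ∃ r c : ZMod (2 * m),
      (∀ i, γ (a i) = a (r * i)) ∧ (∀ i, γ (xa i) = xa (c + r * i)) ∧
      ZMod.castHom (dvd_mul_right 2 m) (ZMod 2) r = 1 := by
    intro γ
    have ho : orderOf (γ (a 1)) = 2 * m := by rw [MulEquiv.orderOf_eq, orderOf_a_one]
    obtain ⟨r, hr⟩ : ∃ r, γ (a 1) = a r := by
      rcases h : γ (a 1) with r | r
      · exact ⟨r, rfl⟩
      · rw [h, orderOf_xa] at ho; omega
    have hA : ∀ i, γ (a i) = a (r * i) := by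
      intro i
      obtain ⟨k, rfl⟩ : ∃ k : ℕ, (k : ZMod (2 * m)) = i := ⟨i.val, ZMod.natCast_zmod_val i⟩
      rw [← a_one_pow, map_pow, hr]
      induction k with
      | zero => simp [a_zero]
      | succ k ih => rw [pow_succ, ih, a_mul_a]; congr 1; push_cast; ring
    obtain ⟨c, hc⟩ : ∃ c, γ (xa 0) = xa c := by
      rcases h : γ (xa 0) with j | j
      · exfalso
        obtain ⟨x, hx⟩ := γ.surjective (xa 0)
        rcases x with i | i
        · rw [hA] at hx; cases hx
        · have : (xa i : QuaternionGroup m) = xa 0 * a i := by rw [xa_mul_a, zero_add]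
          rw [this, map_mul, h, hA, a_mul_a] at hx
          cases hx
      · exact ⟨j, rfl⟩
    refine ⟨r, c, hA, fun i => ?_, ?_⟩
    · rw [show (xa i : QuaternionGroup m) = xa 0 * a i by rw [xa_mul_a, zero_add], map_mul, hc, hA,
        xa_mul_a]
    · rw [hr] at ho
      set φ := ZMod.castHom (dvd_mul_right 2 m) (ZMod 2)
      by_contra hne
      have hφ : φ r = 0 := by
        generalize φ r = v at hne ⊢
        revert hne; revert v; decide
      have hval : ((r.val : ℕ) : ZMod 2) = 0 := by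
        rw [← hφ, show φ r = φ ((r.val : ℕ) : ZMod (2 * m)) by rw [ZMod.natCast_zmod_val], map_natCast]
      obtain ⟨k, hk⟩ := (ZMod.natCast_eq_zero_iff _ _).1 hval
      have hpow : (a r : QuaternionGroup m) ^ m = 1 := by
        rw [← ZMod.natCast_zmod_val r, ← a_one_pow, ← pow_mul, hk,
          show 2 * k * m = (2 * m) * k by ring, pow_mul, a_one_pow_n, one_pow]
      have := Nat.le_of_dvd (by omega) (orderOf_dvd_of_pow_eq_one hpow)
      omega
  obtain ⟨r, c, hr, hc, hr1⟩ := hgen α
  obtain ⟨s, d, hs, hd, hs1⟩ := hgen β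
  set φ := ZMod.castHom (dvd_mul_right 2 m) (ZMod 2) with hφ
  -- the difference is even
  set D : ZMod (2 * m) := d + s * c - (c + r * d) with hD
  have hDeven : φ D = 0 := by
    simp only [hD, map_sub, map_add, map_mul, hr1, hs1, one_mul]
    ring
  obtain ⟨j, hj⟩ : ∃ j : ZMod (2 * m), D = -(2 * j) := by
    have hval : ((D.val : ℕ) : ZMod 2) = 0 := by
      rw [← hDeven, show φ D = φ ((D.val : ℕ) : ZMod (2 * m)) by rw [ZMod.natCast_zmod_val], map_natCast]
    obtain ⟨k, hk⟩ := (ZMod.natCast_eq_zero_iff _ _).1 hval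
    refine ⟨-(k : ZMod (2 * m)), ?_⟩
    rw [← ZMod.natCast_zmod_val D, hk]
    push_cast; ring
  refine ⟨a j, ?_⟩
  have key : ∀ g, a j * α (β g) * (a j)⁻¹ = β (α g) := by
    have hinv : (a j : QuaternionGroup m)⁻¹ = a (-j) := inv_eq_of_mul_eq_one_right (by
      rw [a_mul_a, add_neg_cancel, a_zero])
    intro g
    rcases g with i | i
    · rw [hs, hr, hr, hs, hinv, a_mul_a, a_mul_a]
      congr 1
      ring
    · rw [hd, hc, hc, hd, hinv, a_mul_xa, xa_mul_a]
      congr 1
      linear_combination -hj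
  apply MulEquiv.ext
  intro g
  rw [MulAut.conj_apply, MulAut.mul_apply, MulAut.mul_apply, MulAut.mul_apply, ← key]
  simp

/-- Two elements of a 2-group of automorphisms of `Q₈` outside the inner ones differ by an inner one. -/
theorem q8_two_classes {P : Subgroup (MulAut (QuaternionGroup 2))} (hP : IsPGroup 2 P)
    {α γ : MulAut (QuaternionGroup 2)} (hα : α ∈ P) (hγ : γ ∈ P)
    (hαi : α ∉ (MulAut.conj : QuaternionGroup 2 →* MulAut (QuaternionGroup 2)).range)
    (hγi : γ ∉ (MulAut.conj : QuaternionGroup 2 →* MulAut (QuaternionGroup 2)).range) :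
    γ * α⁻¹ ∈ (MulAut.conj : QuaternionGroup 2 →* MulAut (QuaternionGroup 2)).range := by
  haveI : Fact (Nat.Prime 2) := ⟨Nat.prime_two⟩
  set I := (MulAut.conj : QuaternionGroup 2 →* MulAut (QuaternionGroup 2)).range with hI
  haveI : I.Normal := ⟨by
    rintro _ ⟨q, rfl⟩ δ
    refine ⟨δ q, MulEquiv.ext fun x => ?_⟩
    simp [MulAut.mul_apply, map_mul]⟩
  set f := QuotientGroup.mk' I
  obtain ⟨e⟩ := S3742.result
  have hA : Nat.card (MulAut (QuaternionGroup 2)) = 24 := by
    rw [Nat.card_congr e.toEquiv, Nat.card_perm, Nat.card_fin]; rfl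
  have hQ : Nat.card (QuaternionGroup 2) = 8 := by rw [Nat.card_eq_fintype_card, QuaternionGroup.card]
  have hker : Nat.card (MulAut.conj : QuaternionGroup 2 →* MulAut (QuaternionGroup 2)).ker ∣ 2 := by
    have hz : ∀ x : QuaternionGroup 2, (∀ y, x * y = y * x) → x = 1 ∨ x = a 2 := by decide
    have hle : (MulAut.conj : QuaternionGroup 2 →* MulAut (QuaternionGroup 2)).ker ≤
        Subgroup.zpowers (a 2) := fun x hx => by
      rcases hz x (fun y => by
        have := DFunLike.congr_fun (MonoidHom.mem_ker.1 hx) y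
        rw [MulAut.conj_apply, MulAut.one_apply] at this
        exact mul_inv_eq_iff_eq_mul.1 this) with rfl | rfl
      · exact one_mem _
      · exact Subgroup.mem_zpowers _
    refine (Subgroup.card_dvd_of_le hle).trans ?_
    rw [Nat.card_zpowers]
    exact orderOf_dvd_of_pow_eq_one (by decide)
  have h4 : 4 ∣ Nat.card I := by
    have h := Subgroup.index_ker (MulAut.conj : QuaternionGroup 2 →* MulAut (QuaternionGroup 2))
    have h' := Subgroup.card_mul_index
      (MulAut.conj : QuaternionGroup 2 →* MulAut (QuaternionGroup 2)).ker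
    rw [h, hQ, ← hI] at h'
    obtain hk | hk := (Nat.dvd_prime Nat.prime_two).1 hker <;> rw [hk] at h' <;>
      exact ⟨Nat.card I / 4, by omega⟩
  have h6 : Nat.card (MulAut (QuaternionGroup 2) ⧸ I) ∣ 6 := by
    have h' := Subgroup.card_eq_card_quotient_mul_card_subgroup I
    rw [hA] at h'
    obtain ⟨k, hk⟩ := h4
    rw [hk] at h'
    exact ⟨k, by linarith⟩
  -- the image of `P` has at most two elements
  obtain ⟨j, hj⟩ := IsPGroup.iff_card.1 (hP.map f)
  have hdvd : Nat.card (P.map f) ∣ 6 := (Subgroup.card_subgroup_dvd_card _).trans h6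
  rw [hj] at hdvd
  have hj1 : j ≤ 1 := by
    by_contra h
    exact absurd ((pow_dvd_pow 2 (show 2 ≤ j by omega)).trans hdvd) (by norm_num)
  have hcard : Nat.card (P.map f) ≤ 2 := by
    rw [hj]; interval_cases j <;> norm_num
  by_contra hne
  have h3 : ({1, f α, f γ} : Set (MulAut (QuaternionGroup 2) ⧸ I)) ⊆ (P.map f : Set _) := by
    rintro x (rfl | rfl | rfl)
    · exact one_mem _
    · exact Subgroup.mem_map_of_mem f hα
    · exact Subgroup.mem_map_of_mem f hγ
  have h1 : f α ≠ 1 := fun h => hαi ((QuotientGroup.eq_one_iff α).1 h)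
  have h2 : f γ ≠ 1 := fun h => hγi ((QuotientGroup.eq_one_iff γ).1 h)
  have h12 : f α ≠ f γ := fun h => hne ((QuotientGroup.eq_one_iff _).1 (by
    show f (γ * α⁻¹) = 1
    rw [map_mul, map_inv, h, mul_inv_cancel]))
  have := Set.ncard_le_ncard h3 (Set.toFinite _)
  rw [Set.ncard_insert_of_notMem (by simp [h1.symm, h2.symm]), Set.ncard_pair h12] at this
  have hc' : ((P.map f : Subgroup _) : Set (MulAut (QuaternionGroup 2) ⧸ I)).ncard
      = Nat.card (P.map f) := (Nat.card_coe_set_eq _).symm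
  omega

variable {S : Type*} [Group S] [Finite S]

/-- Classification of noncyclic 2-groups with one involution. -/
theorem exists_quaternion (h2 : IsPGroup 2 S)
    (huniq : ∀ x y : S, x * x = 1 → y * y = 1 → x ≠ 1 → y ≠ 1 → x = y) (hc : ¬ IsCyclic S) :
    ∃ n : ℕ, 1 ≤ n ∧ Nonempty (S ≃* QuaternionGroup (2 ^ n)) := by
  haveI : Fact (Nat.Prime 2) := ⟨Nat.prime_two⟩
  have hu : ∀ H K : Subgroup S, Nat.card H = 2 → Nat.card K = 2 → H = K := by
    intro H K hH hK
    obtain ⟨x, hx⟩ := exists_prime_orderOf_dvd_card' (G := H) 2 (by rw [hH])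
    obtain ⟨y, hy⟩ := exists_prime_orderOf_dvd_card' (G := K) 2 (by rw [hK])
    rw [← Subgroup.orderOf_coe] at hx hy
    have hxy : (x : S) = y := huniq _ _ (by rw [← sq, ← hx, pow_orderOf_eq_one])
      (by rw [← sq, ← hy, pow_orderOf_eq_one]) (fun e => by rw [e, orderOf_one] at hx; omega)
      (fun e => by rw [e, orderOf_one] at hy; omega)
    have h1 : Subgroup.zpowers (x : S) = H :=
      Subgroup.eq_of_le_of_card_ge (Subgroup.zpowers_le.2 x.2) (by rw [Nat.card_zpowers, hx, hH])
    have h2 : Subgroup.zpowers (y : S) = K :=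
      Subgroup.eq_of_le_of_card_ge (Subgroup.zpowers_le.2 y.2) (by rw [Nat.card_zpowers, hy, hK])
    rw [← h1, ← h2, hxy]
  rcases S0016.result 2 h2 hu with h | ⟨-, n, ⟨e⟩⟩
  · exact absurd h hc
  refine ⟨n, ?_, ⟨e⟩⟩
  by_contra h
  obtain rfl : n = 0 := by omega
  haveI : IsCyclic (QuaternionGroup (2 ^ 0)) := QuaternionGroup.quaternionGroup_one_isCyclic
  exact hc (isCyclic_of_surjective e.symm.toMonoidHom e.symm.surjective)

/-- A central element squares to `1`. -/
theorem sq_eq_one_of_central (h2 : IsPGroup 2 S)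
    (huniq : ∀ x y : S, x * x = 1 → y * y = 1 → x ≠ 1 → y ≠ 1 → x = y) (hc : ¬ IsCyclic S) {c : S}
    (hcc : ∀ x, c * x = x * c) : c * c = 1 := by
  obtain ⟨n, hn, ⟨e⟩⟩ := exists_quaternion h2 huniq hc
  have h := quaternion_central_sq hn (c := e c) fun x => by
    obtain ⟨y, rfl⟩ := e.surjective x
    rw [← map_mul, ← map_mul, hcc]
  rwa [← map_mul, map_eq_one_iff _ e.injective] at h

/-- Fusion of automorphisms inside a 2-group of automorphisms is trivial modulo the inner ones. -/
theorem exists_inner (h2 : IsPGroup 2 S)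
    (huniq : ∀ x y : S, x * x = 1 → y * y = 1 → x ≠ 1 → y ≠ 1 → x = y) (hc : ¬ IsCyclic S)
    {P : Subgroup (MulAut S)} (hP : IsPGroup 2 P) {α β : MulAut S} (hα : α ∈ P)
    (hβ : β * α * β⁻¹ ∈ P) :
    β * α * β⁻¹ * α⁻¹ ∈ (MulAut.conj : S →* MulAut S).range := by
  obtain ⟨n, hn, ⟨e⟩⟩ := exists_quaternion h2 huniq hc
  set E := MulAut.congr e with hE
  suffices h : E (β * α * β⁻¹ * α⁻¹) ∈ (MulAut.conj :
      QuaternionGroup (2 ^ n) →* MulAut (QuaternionGroup (2 ^ n))).range by
    obtain ⟨w, hw⟩ := h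
    refine ⟨e.symm w, MulEquiv.ext fun x => ?_⟩
    have := DFunLike.congr_fun hw (e x)
    simp only [hE, MulAut.conj_apply, MulAut.congr_apply, MulEquiv.trans_apply,
      MulEquiv.symm_apply_apply] at this
    apply e.injective
    rw [MulAut.conj_apply, map_mul, map_mul, map_inv, MulEquiv.apply_symm_apply, this]
  rw [map_mul, map_mul, map_mul, map_inv, map_inv]
  rcases Nat.lt_or_ge n 2 with hn2 | hn2
  · obtain rfl : n = 1 := by omega
    rw [show E β * E α * (E β)⁻¹ * (E α)⁻¹ = E (β * α * β⁻¹) * (E α)⁻¹ by simp [map_mul]]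
    set γ := E (β * α * β⁻¹) with hγ
    by_cases hαi : E α ∈ (MulAut.conj : QuaternionGroup 2 →* MulAut (QuaternionGroup 2)).range
    · obtain ⟨w, hw⟩ := hαi
      refine mul_mem ⟨E β w, ?_⟩ (inv_mem ⟨w, hw⟩)
      rw [hγ, map_mul, map_mul, map_inv, ← hw]
      refine MulEquiv.ext fun x => ?_
      simp [MulAut.mul_apply, map_mul]
    by_cases hγi : γ ∈ (MulAut.conj : QuaternionGroup 2 →* MulAut (QuaternionGroup 2)).range
    · obtain ⟨w, hw⟩ := hγi
      refine absurd ⟨(E β)⁻¹ w, ?_⟩ hαi
      rw [show E α = (E β)⁻¹ * γ * E β by rw [hγ]; simp [map_mul, mul_assoc], ← hw]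
      refine MulEquiv.ext fun x => ?_
      simp [MulAut.mul_apply, map_mul]
    exact q8_two_classes (hP.map E.toMonoidHom) (Subgroup.mem_map_of_mem _ hα)
      (Subgroup.mem_map_of_mem _ hβ) hαi hγi
  · exact quaternion_commutator_inner (calc 4 = 2 ^ 2 := rfl
      _ ≤ 2 ^ n := Nat.pow_le_pow_right (by norm_num) hn2) (E α) (E β)

end Cfsg.Agent.StrongClosedNC
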