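import Cfsg.Agent.Lib.StrongClosedNC.BorelUnitary
import Cfsg.Agent.Lib.SuzukiRankOne.Kernel.Main
/-!
# The point stabiliser of a rank one set-up (owner: helper2)

* `invariant_kernel` : an invariant subgroup of `Q` containing its involutions is `Q` or has exponent two
* `commutator_sq` : commutators in `Q` square to `1`
* `dd_eq_one_of_trivial` : `D` acts faithfully on `Q` modulo its involutions (`Q` nonabelian)
* `fixed_of_commute_kk` : what commutes with an element of `K` and fixes `a` fixes `t • a`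
-/

set_option autoImplicit false
set_option linter.style.haveILetI false
set_option linter.unusedSectionVars false

namespace Cfsg.Agent.StrongClosedNC

open MulAction Cfsg.Agent.RankOne Cfsg.Agent.RankOne.Setup Cfsg.Agent.SuzukiRankOne

universe u v

variable {G : Type u} {Ω : Type v} [Group G] [Finite G] [MulAction G Ω] [FaithfulSMul G Ω]
  {a : Ω} {t : G} {Q : Subgroup G}

local notation "DD" => (stabilizer G a ⊓ stabilizer G (t • a) : Subgroup G)

variable (h : Cfsg.IsRankOneSetup G Ω a t Q) (h2 : TwoInvolutions G)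

include h h2 in
theorem invariant_kernel {W : Subgroup G} (hWQ : W ≤ Q)
    (hWn : ∀ g ∈ stabilizer G a, ∀ w ∈ W, g * w * g⁻¹ ∈ W) (hz : ∀ z ∈ Q, z * z = 1 → z ∈ W) :
    W = Q ∨ ∀ w ∈ W, w * w = 1 := by
  classical
  obtain ⟨hQ2, hel⟩ := kernelShape G Ω a t Q h h2
  rw [or_iff_not_imp_right]
  intro hne
  push Not at hne
  obtain ⟨w, hw, hw2⟩ := hne
  have hna : ¬ IsMulCommutative Q := fun hc => hw2 (hel hc w (hWQ hw))
  refine le_antisymm hWQ ?_
  obtain ⟨n, hn, hq, ⟨C⟩⟩ := exists_coords h h2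
  have hzW : ∀ x, C.z x ∈ W := fun x => hz _ (C.z_mem_Q h x) (C.z_sq x)
  rcases C.card_cases h h2 hQ2 hna with e | e
  · -- `|Q| = q²`
    obtain ⟨x, hx⟩ := C.sq_eq h h2 hQ2 hna (hWQ hw)
    have hx0 : x ≠ 0 := fun e0 => hw2 (by rw [← hx, e0, C.z_zero])
    have hsq : ∀ y, C.z y * C.z y = 1 := fun y => C.z_sq y
    let φ : GaloisField 2 n × Option (GaloisField 2 n)ˣ → W := fun p => p.2.elim ⟨C.z p.1, hzW _⟩
      fun b => ⟨C.z p.1 * (C.k b * w * (C.k b)⁻¹),
        mul_mem (hzW _) (hWn _ (C.k_mem_dd b).1 _ hw)⟩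
    have hφsq : ∀ (y : GaloisField 2 n) (b : (GaloisField 2 n)ˣ),
        C.z y * (C.k b * w * (C.k b)⁻¹) * (C.z y * (C.k b * w * (C.k b)⁻¹))
          = C.z ((b : GaloisField 2 n) * b * x) := by
      intro y b
      have hu : C.k b * w * (C.k b)⁻¹ ∈ Q := h.conj_mem _ (C.k_mem_dd b).1 _ (hWQ hw)
      rw [mul_assoc, ← mul_assoc (C.k b * w * (C.k b)⁻¹), ← C.z_commute h h2 y hu, mul_assoc,
        ← mul_assoc, hsq, one_mul, C.sq_conj_k h h2 hQ2 hna hx]
    have hinj : Function.Injective φ := by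
      rintro ⟨y, _ | b⟩ ⟨y', _ | b'⟩ e' <;> have e'' := congrArg Subtype.val e'
      · simp only [φ, Option.elim_none] at e''
        rw [C.z_inj e'']
      · exfalso
        have := congrArg (fun g => g * g) e''
        simp only [φ, Option.elim_none, Option.elim_some, hsq, hφsq] at this
        exact mul_ne_zero (mul_ne_zero b'.ne_zero b'.ne_zero) hx0 (C.z_eq_one.1 this.symm)
      · exfalso
        have := congrArg (fun g => g * g) e''
        simp only [φ, Option.elim_none, Option.elim_some, hsq, hφsq] at this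
        exact mul_ne_zero (mul_ne_zero b.ne_zero b.ne_zero) hx0 (C.z_eq_one.1 this)
      · have := congrArg (fun g => g * g) e''
        simp only [φ, Option.elim_some, hφsq] at this
        have hb : b = b' := Units.ext (frobenius_inj (GaloisField 2 n) 2 (by
          rw [frobenius_def, frobenius_def, pow_two, pow_two]
          exact mul_right_cancel₀ hx0 (C.z_inj this)))
        subst hb
        simp only [φ, Option.elim_some] at e''
        rw [C.z_inj (mul_right_cancel e'')]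
    have hle := Nat.card_le_card_of_injective φ hinj
    rw [Nat.card_prod, Finite.card_option, Nat.card_units] at hle
    have h1 : 1 ≤ Nat.card (GaloisField 2 n) := Nat.card_pos
    rw [Nat.sub_add_cancel h1, ← pow_two, ← e] at hle
    exact (Subgroup.eq_of_le_of_card_ge hWQ hle).ge
  · -- `|Q| = q³`
    have hcard : Nat.card (GaloisField 2 n) = param G a := by rw [hq, GaloisField.card 2 n (by omega)]
    obtain ⟨P, hP⟩ := exists_frame_of_cube h h2 hQ2 hna (by rw [e, hcard]) C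
    obtain ⟨L, hL⟩ := exists_lframe P hQ2 hna e
    exact unitary_le L hWn (fun x => hz _ (L.co.z_mem_Q h x) (L.co.z_sq x)) (hWQ hw) hw hw2

include h h2 in
theorem commutator_sq {u v : G} (hu : u ∈ Q) (hv : v ∈ Q) :
    u * v * u⁻¹ * v⁻¹ * (u * v * u⁻¹ * v⁻¹) = 1 := by
  obtain ⟨hQ2, hel⟩ := kernelShape G Ω a t Q h h2
  by_cases hc : IsMulCommutative Q
  · exact hel hc _ (mul_mem (mul_mem (mul_mem hu hv) (inv_mem hu)) (inv_mem hv))
  obtain ⟨n, -, -, ⟨C⟩⟩ := exists_coords h h2
  obtain ⟨x, hx⟩ := C.comm_eq h h2 hQ2 hc (inv_mem hu) (inv_mem hv)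
  rw [inv_inv, inv_inv] at hx
  rw [← hx, C.z_sq]

include h h2 in
theorem dd_eq_one_of_trivial (hna : ¬ ∀ w ∈ Q, w * w = 1) {e : G} (he : e ∈ DD)
    (htriv : ∀ w ∈ Q, e * w * e⁻¹ * w⁻¹ * (e * w * e⁻¹ * w⁻¹) = 1) : e = 1 := by
  classical
  obtain ⟨hQ2, hel⟩ := kernelShape G Ω a t Q h h2
  have hnc : ¬ IsMulCommutative Q := fun hc => hna (hel hc)
  obtain ⟨n, -, -, ⟨C⟩⟩ := exists_coords h h2
  push Not at hna
  obtain ⟨w, hw, hw2⟩ := hna
  have hzc : ∀ z : G, z ∈ Q → z * z = 1 → ∀ u ∈ Q, Commute z u := by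
    intro z hz hzz u hu
    obtain ⟨y, rfl⟩ := C.z_surj z (h.le hz) hzz
    exact C.z_commute h h2 y hu
  -- `e` fixes all squares
  have hfix : ∀ u ∈ Q, Commute e (u * u) := by
    intro u hu
    set d := e * u * e⁻¹ * u⁻¹ with hd
    have hdQ : d ∈ Q := mul_mem (h.conj_mem e he.1 u hu) (inv_mem hu)
    have hdu := (hzc d hdQ (htriv u hu) u hu).eq
    refine mul_inv_eq_iff_eq_mul.1 ?_
    calc e * (u * u) * e⁻¹ = (d * u) * (d * u) := by rw [hd]; group
      _ = d * (u * d) * u := by group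
      _ = (d * d) * (u * u) := by rw [← hdu]; group
      _ = u * u := by rw [htriv u hu, one_mul]
  obtain ⟨x, hx⟩ := C.sq_eq h h2 hQ2 hnc hw
  have hx0 : x ≠ 0 := fun e0 => hw2 (by rw [← hx, e0, C.z_zero])
  have hz : ∀ y, Commute e (C.z y) := by
    intro y
    rcases eq_or_ne y 0 with rfl | hy
    · rw [C.z_zero]; exact Commute.one_right _
    letI := Fintype.ofFinite (GaloisField 2 n)
    obtain ⟨b, hb⟩ := FiniteField.isSquare_of_char_two (ringChar.eq (GaloisField 2 n) 2) (y / x)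
    have hb0 : b ≠ 0 := fun e0 => div_ne_zero hy hx0 (by rw [hb, e0, mul_zero])
    have h1 := hfix _ (h.conj_mem _ (C.k_mem_dd (Units.mk0 b hb0)).1 _ hw)
    rwa [C.sq_conj_k h h2 hQ2 hnc hx, Units.val_mk0, ← hb, div_mul_cancel₀ _ hx0] at h1
  -- hence centralises `Q`
  have hcent : ∀ u ∈ Q, Commute e u := by
    intro u hu
    set d := e * u * e⁻¹ * u⁻¹ with hd
    have hdQ : d ∈ Q := mul_mem (h.conj_mem e he.1 u hu) (inv_mem hu)
    obtain ⟨y, hy⟩ := C.z_surj d (h.le hdQ) (htriv u hu)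
    have hed : e * d * e⁻¹ = d := by
      rw [← hy, (hz y).eq, mul_inv_cancel_right]
    have hpow : ∀ k : ℕ, e ^ k * u * (e ^ k)⁻¹ = d ^ k * u := by
      intro k
      induction k with
      | zero => simp
      | succ k ih =>
        calc e ^ (k + 1) * u * (e ^ (k + 1))⁻¹ = e * (e ^ k * u * (e ^ k)⁻¹) * e⁻¹ := by
              rw [pow_succ']; group
          _ = (e * d * e⁻¹) ^ k * (e * u * e⁻¹) := by rw [ih, conj_pow]; group
          _ = d ^ (k + 1) * u := by
              rw [hed, pow_succ, show e * u * e⁻¹ = d * u by rw [hd]; group]; group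
    have h1 := hpow (orderOf e)
    rw [pow_orderOf_eq_one, one_mul, inv_one, mul_one] at h1
    have hd1 : d ^ orderOf e = 1 := mul_right_cancel (h1.symm.trans (one_mul u).symm)
    obtain ⟨k, hk⟩ := h.odd_card.of_dvd_nat (Subgroup.orderOf_dvd_natCard _ he)
    rw [hk, pow_succ, pow_mul, pow_two, htriv u hu, one_pow, one_mul] at hd1
    exact mul_inv_eq_iff_eq_mul.1 (mul_inv_eq_one.1 hd1)
  refine eq_of_smul_eq_smul fun p : Ω => ?_
  rw [one_smul]
  rcases eq_or_ne p a with rfl | hp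
  · exact he.1
  obtain ⟨u, hu, rfl⟩ := exists_smul_eq h hp
  rw [← mul_smul, (hcent u hu).eq, mul_smul, show e • t • a = t • a from he.2]

include h in
theorem fixed_of_commute_kk {k : G} (hk : k ∈ Cfsg.invertedBy DD t) (hk1 : k ≠ 1) {p : Ω}
    (hp : k • p = p) : p = a ∨ p = t • a := by
  rcases eq_or_ne p a with e | e
  · exact Or.inl e
  refine Or.inr ?_
  obtain ⟨u, hu, rfl⟩ := exists_smul_eq h e
  have hku : k * u * k⁻¹ = u := congrArg Subtype.val ((regular h (t_smul_ne h) e).unique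
    (y₁ := ⟨k * u * k⁻¹, h.conj_mem k hk.1.1 u hu⟩) (y₂ := ⟨u, hu⟩)
    (by
      show (k * u * k⁻¹) • (t • a) = _
      rw [mul_smul, mul_smul, show k⁻¹ • (t • a) = t • a from (inv_mem hk.1).2, hp]) rfl)
  rw [kk_fpf h hk hk1 hu (mul_inv_eq_iff_eq_mul.1 hku), one_smul]

end Cfsg.Agent.StrongClosedNC
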