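import Cfsg.Agent.Lib.SuzukiRankOne.Main
/-!
# `|Q| = q³`: no `G_a`-invariant subgroup strictly between the centre and `Q` (owner: helper2)
-/

set_option autoImplicit false
set_option linter.style.haveILetI false
set_option linter.unusedSectionVars false

namespace Cfsg.Agent.StrongClosedNC

open MulAction Cfsg.Agent.RankOne Cfsg.Agent.RankOne.Setup Cfsg.Agent.SuzukiRankOne
  Cfsg.Agent.SuzukiRankOne.Unitary

universe u v w

variable {G : Type u} {Ω : Type v} [Group G] [Finite G] [MulAction G Ω] [FaithfulSMul G Ω]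
  {a : Ω} {t : G} {Q : Subgroup G} {F : Type w} [Field F] [Finite F] [CharP F 2]

section

variable (P : LFrame a t Q F) {W : Subgroup G}
  (hWn : ∀ g ∈ stabilizer G a, ∀ w ∈ W, g * w * g⁻¹ ∈ W) (hz : ∀ x : F, P.co.z x ∈ W)

include hz in
/-- Membership only depends on the second row. -/
theorem phi_mem_of_row {A A' R : F × F} (h : det₂ A R = 1) (h' : det₂ A' R = 1)
    (hm : P.phi A R ∈ W) : P.phi A' R ∈ W := by
  obtain ⟨x, rfl⟩ := exists_shift h h'
  rw [← P.phi_mul_z h]
  exact mul_mem hm (hz x)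

include hWn hz in
/-- There are two independent rows in `W`. -/
theorem exists_two_rows {T₀ T : F × F} (h0 : det₂ T₀ T = 1) (hm : P.phi T₀ T ∈ W) :
    ∃ A B, det₂ A B = 1 ∧ P.phi A B ∈ W ∧ det₂ B T ≠ 0 := by
  by_contra hcon
  push Not at hcon
  have key : ∀ R, det₂ T R = 1 → P.qr T * P.qr R = 1 := by
    intro R h
    have hd := P.hp_mem h
    obtain ⟨e, he⟩ := P.conj_phi hd (T := P.rp T R) (R := P.tf T R)
      ((det₂_comm _ _).trans (P.det_tf h))
    rw [(P.hp_line h).2] at e he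
    have hmem : P.phi (P.rp T R) (P.tf T R) ∈ W := by
      have h1 := hWn _ (inv_mem hd.1) _ (phi_mem_of_row P hz h0 he hm)
      rw [← e] at h1
      simpa [mul_assoc] using h1
    have h2 := hcon _ _ ((det₂_comm _ _).trans (P.det_tf h)) hmem
    have h3 : 1 + P.qr (P.rp T R) * P.qr R = 0 := by
      rw [← h2]
      simp only [LFrame.tf, det₂_add_left, det₂_smul_left]
      rw [show det₂ (P.rp T R) T = P.qr R by
        rw [LFrame.rp, det₂_add_left, det₂_smul_left, det₂_self, det₂_comm R T, h, zero_add, mul_one],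
        det₂_comm R T, h]
    have h4 : P.qr (P.rp T R) * P.qr R = 1 := by
      rw [add_eq_zero_iff_eq_neg, CharTwo.neg_eq] at h3
      exact h3.symm
    have e2 := P.qr_form h (P.qr R)
    rw [add_assoc (P.qr R / P.qr T), CharTwo.add_self_eq_zero, add_zero] at e2
    have hT : P.qr T ≠ 0 := P.qr_ne (left_ne_zero (y := R) (by rw [h]; exact one_ne_zero))
    have hR : P.qr R ≠ 0 := P.qr_ne (right_ne_zero (x := T) (by rw [h]; exact one_ne_zero))
    have e3 : P.qr (P.rp T R) = P.qr T := by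
      rw [← mul_div_assoc, div_eq_iff hT, mul_comm (P.qr R) (P.qr T)] at e2
      exact mul_right_cancel₀ hR e2
    rw [← e3]
    exact h4
  have hT0 : det₂ T T₀ = 1 := (det₂_comm _ _).trans h0
  have h1 := key _ hT0
  have hT : P.qr T ≠ 0 := fun e => by rw [e, zero_mul] at h1; exact zero_ne_one h1
  have hR : P.qr T₀ ≠ 0 := fun e => by rw [e, mul_zero] at h1; exact zero_ne_one h1
  have hall : ∀ c : F, c ≠ 0 → c = P.qr T := by
    intro c hc
    have h2 := key (T₀ + c • T) (by
      rw [det₂_add_right, hT0, det₂_smul_right, det₂_self, mul_zero, add_zero])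
    have e := P.qr_form h0 c
    rw [mul_left_cancel₀ hT (h2.trans h1.symm), mul_add, mul_add, mul_div_cancel₀ _ hR, add_assoc] at e
    have e' := add_eq_left.1 e
    rw [← mul_add, mul_eq_zero] at e'
    have e'' := e'.resolve_left hR
    rw [← mul_add, mul_eq_zero, or_iff_right hc, add_eq_zero_iff_eq_neg, CharTwo.neg_eq] at e''
    exact e''.symm
  obtain ⟨c, z, hc, hz', hne⟩ := P.four_le
  exact hne ((hall c hc).trans (hall z hz').symm)

include hWn hz in
/-- Scalar multiples of rows. -/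
theorem row_smul {R : F × F} (hR : R ≠ 0) (hm : P.phi (compl R) R ∈ W) {c : F} (hc : c ≠ 0) :
    P.phi (compl (c • R)) (c • R) ∈ W := by
  have hb := hWn _ (P.co.k_mem_dd (Units.mk0 c hc)⁻¹).1 _ hm
  rw [P.k_phi (det_compl hR), inv_inv] at hb
  simp only [Units.val_mk0] at hb
  refine phi_mem_of_row P hz ?_ (det_compl (smul_ne_zero hc hR)) hb
  rw [det₂_smul_left, det₂_smul_right, det_compl hR, mul_one, Units.val_inv_eq_inv_val,
    Units.val_mk0, inv_mul_cancel₀ hc]

include hWn hz in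
/-- An element of `W` outside the centre generates `Q` under `G_a`. -/
theorem unitary_le {w : G} (hwQ : w ∈ Q) (hw : w ∈ W) (hw2 : w * w ≠ 1) : Q ≤ W := by
  obtain ⟨T₀, T, h0, rfl⟩ := P.exists_phi hwQ hw2
  obtain ⟨A, B, hAB, hBm, hBT⟩ := exists_two_rows P hWn hz h0 hw
  have hB : B ≠ 0 := right_ne_zero (x := A) (by rw [hAB]; exact one_ne_zero)
  have hT : T ≠ 0 := right_ne_zero (x := T₀) (by rw [h0]; exact one_ne_zero)
  have hTm := phi_mem_of_row P hz h0 (det_compl hT) hw
  have hBm' := phi_mem_of_row P hz hAB (det_compl hB) hBm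
  -- the rows in `W`
  have hrow : ∀ R : F × F, R ≠ 0 → P.phi (compl R) R ∈ W := by
    intro R hR
    have hqR := P.qr_ne hR
    set T' : F × F := (det₂ T B)⁻¹ • T with hT'
    have hTB : det₂ T B ≠ 0 := by rwa [det₂_comm]
    have hT'B : det₂ T' B = 1 := by rw [hT', det₂_smul_left, inv_mul_cancel₀ hTB]
    have hT'0 : T' ≠ 0 := smul_ne_zero (inv_ne_zero hTB) hT
    have hT'm := row_smul P hWn hz hT hTm (inv_ne_zero hTB)
    have hcomb := eq_comb hT'B (P.qr R • R)
    set α := det₂ (P.qr R • R) B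
    set β := det₂ (P.qr R • R) T'
    have hsingle : ∀ (U : F × F) (γ : F), U ≠ 0 → P.phi (compl U) U ∈ W → P.qr R • R = γ • U →
        P.phi (compl R) R ∈ W := by
      intro U γ hU hUm e
      have hγ : γ ≠ 0 := fun h => smul_ne_zero hqR hR (e.trans (by rw [h, zero_smul]))
      have eR : R = ((P.qr R)⁻¹ * γ) • U := by rw [← smul_smul, ← e, inv_smul_smul₀ hqR]
      have := row_smul P hWn hz hU hUm (mul_ne_zero (inv_ne_zero hqR) hγ)
      rwa [← eR] at this
    rcases eq_or_ne β 0 with hβ | hβ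
    · exact hsingle T' α hT'0 hT'm (by rw [hcomb, hβ, zero_smul, add_zero])
    rcases eq_or_ne α 0 with hα | hα
    · exact hsingle B β hB hBm' (by rw [hcomb, hα, zero_smul, zero_add])
    have ha : P.qr T' / α ≠ 0 := div_ne_zero (P.qr_ne hT'0) hα
    have hb : P.qr B / β ≠ 0 := div_ne_zero (P.qr_ne hB) hβ
    obtain ⟨r₃, hr₃, hsum, hqr⟩ := P.cls_add (r₁ := (P.qr T' / α) • T') (r₂ := (P.qr B / β) • B)
      (by rw [det₂_smul_left, det₂_smul_right, hT'B, mul_one]; exact mul_ne_zero ha hb)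
    have hs : ∀ (U : F × F) (γ : F), U ≠ 0 → γ ≠ 0 →
        P.qr ((P.qr U / γ) • U) • (P.qr U / γ) • U = γ • U := by
      intro U γ hU hγ
      have hq := P.qr_ne hU
      rw [P.qr_smul' (div_ne_zero hq hγ) hU, smul_smul]
      congr 1
      field_simp
    rw [hs _ _ hT'0 hα, hs _ _ hB hβ, ← hcomb] at hqr
    have hR3 : r₃ = R := by
      have hc : (P.qr r₃)⁻¹ * P.qr R ≠ 0 := mul_ne_zero (inv_ne_zero (P.qr_ne hr₃)) hqR
      have e3 : r₃ = ((P.qr r₃)⁻¹ * P.qr R) • R := by
        rw [← smul_smul, ← hqr, inv_smul_smul₀ (P.qr_ne hr₃)]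
      have e4 := P.qr_smul' hc hR
      rw [← e3] at e4
      have h1 : (P.qr r₃)⁻¹ * P.qr R = 1 := by
        have hq3 := P.qr_ne hr₃
        field_simp at e4 ⊢
        exact e4
      rw [e3, h1, one_smul]
    have hm1 := row_smul P hWn hz hT'0 hT'm ha
    have hm2 := row_smul P hWn hz hB hBm' hb
    rw [hR3, P.cls_eq (det_compl (smul_ne_zero ha hT'0)), P.cls_eq (det_compl (smul_ne_zero hb hB)),
      P.cls_eq (det_compl hR), ← cl_mul] at hsum
    obtain ⟨x, hx⟩ := P.center_sq (LFrame.cl_eq hsum)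
    have e : P.phi (compl R) R = P.phi (compl ((P.qr T' / α) • T')) ((P.qr T' / α) • T') *
        P.phi (compl ((P.qr B / β) • B)) ((P.qr B / β) • B) * P.co.z x := by
      rw [hx]
      simp [Subgroup.coe_mul, mul_assoc]
    rw [e]
    exact mul_mem (mul_mem hm1 hm2) (hz x)
  intro u hu
  by_cases hu2 : u * u = 1
  · obtain ⟨x, rfl⟩ := P.co.z_surj u (P.setup.le hu) hu2
    exact hz x
  obtain ⟨A', R, h, rfl⟩ := P.exists_phi hu hu2
  have hR : R ≠ 0 := right_ne_zero (x := A') (by rw [h]; exact one_ne_zero)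
  exact phi_mem_of_row P hz (det_compl hR) h (hrow R hR)

end

end Cfsg.Agent.StrongClosedNC
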