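import Cfsg.Agent.Lib.StrongClosedNC.Descent
import Cfsg.Agent.Lib.StrongClosedNC.Borel
import Cfsg.Agent.Lib.Aschbacher.CriterionL2Final
import Cfsg.Agent.Lib.Bender.RankOneHalf
import Cfsg.Agent.Lib.Bender.Consumers
/-!
# The hypotheses of S3289 with a core free overgroup (owner: helper2)

With `z` a central involution of `S` and `K = ⟨z^G⟩`: `H ∩ K` is strongly embedded in `K` by Aschbacher's
criterion, `K` is a rank one group and the action of `S` on it shows `S ≤ K`.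

* `CoreFreeResult`, `coreFree`
-/

set_option autoImplicit false
set_option linter.style.haveILetI false
set_option linter.unusedSectionVars false

namespace Cfsg.Agent.StrongClosedNC

open Subgroup MulAction Cfsg.Agent.Bender Cfsg.Agent.SuzukiRankOne
open Cfsg.Agent.RankOne Cfsg.Agent.RankOne.Setup

universe u

variable {G : Type u} [Group G] [Finite G] {T : Sylow 2 G} {S H : Subgroup G}

theorem orderOf_two {x : G} (hx : x * x = 1) (hx1 : x ≠ 1) : orderOf x = 2 :=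
  orderOf_eq_prime (by rw [pow_two, hx]) hx1

theorem sq_of_orderOf {x : G} (hx : orderOf x = 2) : x * x = 1 := by
  rw [← pow_two, ← hx, pow_orderOf_eq_one]

theorem ne_one_of_orderOf {x : G} (hx : orderOf x = 2) : x ≠ 1 := fun e => by
  rw [e, orderOf_one] at hx
  omega

/-- Two commuting conjugates of elements of `S` inside `H` move into `S` together. -/
theorem exists_move_pair (h : ClosedSetup T S H) {u v : G} (hu : IsPGroup 2 (zpowers u))
    (hv : IsPGroup 2 (zpowers v)) (hc : Commute u v) (huH : u ∈ H) (hvH : v ∈ H) :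
    ∃ k ∈ H, k * u * k⁻¹ ∈ (T : Subgroup G) ∧ k * v * k⁻¹ ∈ (T : Subgroup G) := by
  haveI : Fact (Nat.Prime 2) := ⟨Nat.prime_two⟩
  have hle : zpowers u ≤ normalizer (zpowers v : Set G) :=
    (zpowers_le.2 (centralizer_le_normalizer _ (mem_centralizer_iff.2 (by
      rintro _ ⟨i, rfl⟩
      exact (hc.symm.zpow_left i).eq))))
  obtain ⟨k, hk, hkT⟩ := h.exists_move (IsPGroup.to_sup_of_normal_right' hu hv hle)
    (sup_le (zpowers_le.2 huH) (zpowers_le.2 hvH))
  exact ⟨k, hk, hkT u (mem_sup_left (mem_zpowers u)), hkT v (mem_sup_right (mem_zpowers v))⟩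

theorem isPGroup_conj (hs : IsPGroup 2 S) {s : G} (hsS : s ∈ S) (g : G) :
    IsPGroup 2 (zpowers (g * s * g⁻¹)) := by
  have := (hs.to_le (zpowers_le.2 hsS)).map (MulAut.conj g).toMonoidHom
  rwa [MonoidHom.map_zpowers] at this

/-- All involutions of `S` are conjugate. -/
theorem exists_conj_eq (h : ClosedSetup T S H) {s z : G} (hs : s ∈ S) (hz : z ∈ S)
    (hs2 : orderOf s = 2) (hz2 : orderOf z = 2) : ∃ g : G, g * z * g⁻¹ = s := by
  haveI : Fact (Nat.Prime 2) := ⟨Nat.prime_two⟩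
  have hS2 : IsPGroup 2 S := T.isPGroup'.to_le h.closed.1
  obtain ⟨g, -, hg⟩ := SetLike.exists_of_lt (lt_top_iff_ne_top.2 h.proper)
  set z' := g * z * g⁻¹ with hz'
  have hs1 := ne_one_of_orderOf hs2
  have hz1 := ne_one_of_orderOf hz2
  have hz'H : z' ∉ H := fun e => hg (h.mem_of_conj_mem hz hz1 e)
  have hss : s * s = 1 := sq_of_orderOf hs2
  have hz'z' : z' * z' = 1 := by
    rw [hz', show g * z * g⁻¹ * (g * z * g⁻¹) = g * (z * z) * g⁻¹ by group, sq_of_orderOf hz2, mul_one,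
      mul_inv_cancel]
  set r := s * z' with hr
  have hsinv : s⁻¹ = s := inv_eq_of_mul_eq_one_right hss
  have hzinv : z'⁻¹ = z' := inv_eq_of_mul_eq_one_right hz'z'
  have hsr1 : s * r * s⁻¹ = r⁻¹ := by rw [hr, mul_inv_rev, hsinv, hzinv, ← mul_assoc s s, hss, one_mul]
  have hsr : ∀ n : ℕ, s * r ^ n * s⁻¹ = (r ^ n)⁻¹ := fun n => by rw [← conj_pow, hsr1, inv_pow]
  -- `s r^(2i)` is conjugate to `s`, `s r^(2i+1)` to `z'`
  have heven : ∀ i, s * r ^ (2 * i) = (r ^ i)⁻¹ * s * r ^ i := fun i => by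
    rw [← hsr i, two_mul, pow_add]; group
  have hodd : ∀ i, s * r ^ (2 * i + 1) = (r ^ i)⁻¹ * z' * r ^ i := fun i => by
    rw [show 2 * i + 1 = i + 1 + i by ring, pow_add, pow_succ, ← hsr i,
      show z' = s * r by rw [hr, ← mul_assoc, hss, one_mul]]
    group
  rcases Nat.even_or_odd (orderOf r) with ⟨j, hj⟩ | ⟨i, hi⟩
  · exfalso
    set w := r ^ j with hw
    have hpos := orderOf_pos r
    have hw1 : w ≠ 1 := fun e => by
      have := Nat.le_of_dvd (by omega) (orderOf_dvd_of_pow_eq_one e)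
      omega
    have hww : w * w = 1 := by rw [hw, ← pow_add, ← hj, pow_orderOf_eq_one]
    have hwinv : w⁻¹ = w := inv_eq_of_mul_eq_one_right hww
    have hsw : Commute s w := mul_inv_eq_iff_eq_mul.1 (by rw [hw, hsr, ← hw, hwinv])
    have hzw : Commute z' w := by
      have h1 : Commute r w := (Commute.refl r).pow_right j
      have := hsw.mul_left h1
      rwa [hr, ← mul_assoc, hss, one_mul] at this
    have hwH : w ∈ H := h.cent s hs hs1 (mem_centralizer_singleton_iff.2 hsw.eq.symm)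
    obtain ⟨c, a, ha, hca⟩ : ∃ c : G, ∃ a ∈ S, s * w = c * a * c⁻¹ := by
      obtain ⟨i, rfl | rfl⟩ := j.even_or_odd'
      · exact ⟨(r ^ i)⁻¹, s, hs, by rw [hw, heven, inv_inv]⟩
      · exact ⟨(r ^ i)⁻¹ * g, z, hz, by rw [hw, hodd, hz']; group⟩
    have hsH : s ∈ H := h.sylow_le (h.closed.1 hs)
    obtain ⟨k, hk, hks, hksw⟩ := exists_move_pair h (hS2.to_le (zpowers_le.2 hs))
      (hca ▸ isPGroup_conj hS2 ha c) ((Commute.refl s).mul_right hsw) hsH (mul_mem hsH hwH)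
    have h1 := h.conj_mem hs hks
    have h3 : k * (s * w) * k⁻¹ ∈ S := by
      rw [hca, show k * (c * a * c⁻¹) * k⁻¹ = k * c * a * (k * c)⁻¹ by group] at hksw ⊢
      exact h.conj_mem ha hksw
    have h4 : k * w * k⁻¹ ∈ S := by
      have := mul_mem (inv_mem h1) h3
      rwa [show (k * s * k⁻¹)⁻¹ * (k * (s * w) * k⁻¹) = k * w * k⁻¹ by group] at this
    have h5 := h.cent _ h4 (fun e => hw1 (conj_eq_one_iff.1 e))
      (show k * z' * k⁻¹ ∈ centralizer {k * w * k⁻¹} from mem_centralizer_singleton_iff.2 (by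
        rw [show k * z' * k⁻¹ * (k * w * k⁻¹) = k * (z' * w) * k⁻¹ by group, hzw.eq]
        group))
    exact hz'H (by simpa [mul_assoc] using mul_mem (mul_mem (inv_mem hk) h5) hk)
  · refine ⟨(r ^ i)⁻¹ * g, ?_⟩
    have h1 : s * r ^ (2 * i + 1) = s := by rw [← hi, pow_orderOf_eq_one, mul_one]
    rw [hodd] at h1
    refine Eq.trans ?_ h1
    rw [hz']
    group

/-- Aschbacher's criterion applies to a central involution of `S`. -/
theorem stronglyEmbedded_central (h : ClosedSetup T S H) (hc : H.normalCore = ⊥) {z : G} (hz : z ∈ S)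
    (hz2 : orderOf z = 2) (hzc : ∀ x ∈ (T : Subgroup G), Commute x z) :
    Cfsg.IsStronglyEmbedded (H.subgroupOf (normalClosure ({z} : Set G))) := by
  have hz1 := ne_one_of_orderOf hz2
  have hS2 : IsPGroup 2 S := T.isPGroup'.to_le h.closed.1
  refine Aschbacher.coreFreeCriterion G T z H hz2 (h.closed.1 hz) hzc h.proper hc (fun g => ⟨fun hg =>
    h.mem_of_conj_mem hz hz1 hg, fun hg => mul_mem (mul_mem hg (h.sylow_le (h.closed.1 hz))) (inv_mem hg)⟩)
    fun g hcm hne => ?_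
  have hgzH : g * z * g⁻¹ ∈ H := h.cent z hz hz1 (mem_centralizer_singleton_iff.2 hcm.eq.symm)
  obtain ⟨k, hk, h1, h2⟩ := exists_move_pair h (hS2.to_le (zpowers_le.2 hz)) (isPGroup_conj hS2 hz g) hcm
    (h.sylow_le (h.closed.1 hz)) hgzH
  have h1' := h.conj_mem hz h1
  rw [show k * (g * z * g⁻¹) * k⁻¹ = k * g * z * (k * g)⁻¹ by group] at h2
  have h2' := h.conj_mem hz h2
  intro x hx
  rw [mem_centralizer_singleton_iff] at hx
  have hne' : k * z * k⁻¹ * (k * g * z * (k * g)⁻¹) ≠ 1 := fun e => hne (by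
    have e' : z * (g * z * g⁻¹) = 1 := conj_eq_one_iff.1
      (show k * (z * (g * z * g⁻¹)) * k⁻¹ = 1 by rw [← e]; group)
    rw [← inv_eq_of_mul_eq_one_right e', inv_eq_of_mul_eq_one_right (sq_of_orderOf hz2)])
  have := h.cent _ (mul_mem h1' h2') hne' (show k * x * k⁻¹ ∈ _ from mem_centralizer_singleton_iff.2 (by
    calc k * x * k⁻¹ * (k * z * k⁻¹ * (k * g * z * (k * g)⁻¹))
        = k * (x * (z * (g * z * g⁻¹))) * k⁻¹ := by group
      _ = k * (z * (g * z * g⁻¹) * x) * k⁻¹ := by rw [hx]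
      _ = _ := by group))
  simpa [mul_assoc] using mul_mem (mul_mem (inv_mem hk) this) hk

/-- The conclusion in the core free case, `X` being the normal closure of `S`. -/
structure CoreFreeResult (T : Sylow 2 G) (S H X : Subgroup G) : Prop where
  se : Cfsg.IsStronglyEmbedded (H.subgroupOf X)
  core : (H.subgroupOf X).normalCore = ⊥
  gen : closure {x : X | orderOf x = 2} = ⊤
  invol : ∀ x ∈ (T : Subgroup G), x ∈ X → x * x = 1 → x ∈ S
  alt : (T : Subgroup G) ⊓ X ≤ S ∨ ∀ s ∈ S, s * s = 1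

theorem coreFree (h : ClosedSetup T S H) (hc : H.normalCore = ⊥) (h2 : TwoInv S) :
    CoreFreeResult T S H (normalClosure (S : Set G)) := by
  haveI : Fact (Nat.Prime 2) := ⟨Nat.prime_two⟩
  obtain ⟨z, hzS, hz2, hzc⟩ := h.exists_central
  have hz1 := ne_one_of_orderOf hz2
  set K := normalClosure ({z} : Set G) with hKdef
  haveI hKn : K.Normal := normalClosure_normal
  have hzK : z ∈ K := subset_normalClosure rfl
  have hse := stronglyEmbedded_central h hc hzS hz2 hzc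
  rw [← hKdef] at hse
  -- involutions of `S` lie in `K`
  have hSK : ∀ s ∈ S, s * s = 1 → s ∈ K := by
    intro s hs hss
    rcases eq_or_ne s 1 with rfl | hs1
    · exact one_mem _
    obtain ⟨g, rfl⟩ := exists_conj_eq h hs hzS (orderOf_two hss hs1) hz2
    exact hKn.conj_mem z hzK g
  -- involutions of `T ∩ K` lie in `S`
  have hinv : ∀ x ∈ (T : Subgroup G), x ∈ K → x * x = 1 → x ∈ S := by
    intro x hxT hxK hxx
    rcases eq_or_ne x 1 with rfl | hx1
    · exact one_mem _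
    obtain ⟨g, hg⟩ := isConj_iff.1 (Involution.isConj_involutions hse (s := (⟨z, hzK⟩ : K))
      (t := ⟨x, hxK⟩) (by rw [orderOf_mk]; exact hz2) (by rw [orderOf_mk]; exact orderOf_two hxx hx1))
    have hg' : (g : G) * z * (g : G)⁻¹ = x := congrArg Subtype.val hg
    rw [← hg'] at hxT ⊢
    exact h.conj_mem hzS hxT
  -- `G = K H`
  have hfrat : ∀ g : G, ∃ k ∈ K, ∃ u ∈ H, g = k * u := by
    intro g
    obtain ⟨P, hP⟩ := PReduced.exists_sylow_inf T (C := K) (by rw [normalizer_eq_top]; exact le_top)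
    have hg : g ∈ K ⊔ normalizer ((P : Subgroup ↥K).map K.subtype : Set G) := by
      rw [sup_comm]; exact (Sylow.normalizer_sup_eq_top P).ge (mem_top g)
    rw [← SetLike.mem_coe, Subgroup.normal_mul] at hg
    obtain ⟨k, hk, u, hu, rfl⟩ := hg
    refine ⟨k, hk, u, ?_, rfl⟩
    have hmap : (P : Subgroup ↥K).map K.subtype = (T : Subgroup G) ⊓ K := by
      rw [hP, subgroupOf_map_subtype]
    have hu' := (mem_normalizer_iff.1 hu z).1 (by rw [hmap]; exact ⟨h.closed.1 hzS, hzK⟩)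
    rw [hmap] at hu'
    exact h.mem_of_conj_mem hzS hz1 (h.sylow_le hu'.1)
  set M := H.subgroupOf K with hMdef
  have hcore : M.normalCore = ⊥ := by
    refine (eq_bot_iff_forall _).2 fun l hl => Subtype.ext ?_
    have hlc : (l : G) ∈ H.normalCore := by
      intro g
      obtain ⟨k, hk, u, hu, rfl⟩ := hfrat g
      have hk' : u⁻¹ * k * u ∈ K := by simpa using hKn.conj_mem k hk u⁻¹
      have h1 : (u⁻¹ * k * u) * (l : G) * (u⁻¹ * k * u)⁻¹ ∈ H := hl ⟨_, hk'⟩
      have h3 := mul_mem (mul_mem hu h1) (inv_mem hu)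
      show k * u * (l : G) * (k * u)⁻¹ ∈ H
      rwa [show u * (u⁻¹ * k * u * (l : G) * (u⁻¹ * k * u)⁻¹) * u⁻¹
        = k * u * (l : G) * (k * u)⁻¹ by group] at h3
    rw [hc] at hlc
    exact mem_bot.1 hlc
  have hK2 : TwoInvolutions K := by
    obtain ⟨x, hxS, y, hyS, hxx, hyy, hx1, hy1, hne⟩ := h2
    obtain ⟨w, hw, hww, hw1, hwz⟩ : ∃ w ∈ S, w * w = 1 ∧ w ≠ 1 ∧ w ≠ z := by
      rcases eq_or_ne x z with e | e
      · exact ⟨y, hyS, hyy, hy1, fun e' => hne (e.trans e'.symm)⟩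
      · exact ⟨x, hxS, hxx, hx1, e⟩
    exact ⟨⟨w, hSK w hw hww⟩, ⟨z, hzK⟩, fun e => hw1 (congrArg Subtype.val e),
      fun e => hz1 (congrArg Subtype.val e), fun e => hwz (congrArg Subtype.val e), Subtype.ext hww,
      Subtype.ext (sq_of_orderOf hz2), Subtype.ext (hzc w (h.closed.1 hw)).eq⟩
  obtain ⟨t, Q, hs⟩ := Bender.rankOneHalf K M hse hcore hK2
  haveI := Bender.faithful_of_normalCore hcore
  have hstab : stabilizer K (((1 : K) : K ⧸ M)) = M := MulAction.stabilizer_quotient M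
  have htH : (t : G) ∉ H := fun e => hs.not_mem (by rw [hstab]; exact e)
  have hMmem : ∀ y : K, (y : G) ∈ H → y ∈ stabilizer K (((1 : K) : K ⧸ M)) := fun y hy => by
    rw [hstab]; exact hy
  obtain ⟨hQ2, ⟨S0, hS0⟩, -⟩ := Bender.sylow_normal hs hK2
  -- 2-elements of `H ∩ K` lie in `Q`
  have hQel : ∀ y : K, (y : G) ∈ H → IsPGroup 2 (zpowers y) → y ∈ Q := by
    intro y hy hy2
    have hle : zpowers y ≤ normalizer (Q : Set K) := zpowers_le.2 (mem_normalizer_Q hs hK2 (hMmem y hy))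
    have h1 : IsPGroup 2 (zpowers y ⊔ Q : Subgroup K) := IsPGroup.to_sup_of_normal_right' hy2 hQ2 hle
    have h3 := S0.is_maximal' h1 (by rw [hS0]; exact le_sup_right)
    rw [hS0] at h3
    exact h3 ▸ mem_sup_left (mem_zpowers y)
  obtain ⟨P, hP⟩ := PReduced.exists_sylow_inf T (C := K) (by rw [normalizer_eq_top]; exact le_top)
  have hQ : Q = (T : Subgroup G).subgroupOf K := by
    have h1 : (P : Subgroup K) ≤ Q := fun y hy => hQel y (h.sylow_le (by rw [hP] at hy; exact hy))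
      (P.isPGroup'.to_le (zpowers_le.2 hy))
    rw [← hP]
    exact P.is_maximal' hQ2 h1
  have hQT : ∀ y : K, y ∈ Q ↔ (y : G) ∈ (T : Subgroup G) := fun y => by rw [hQ, mem_subgroupOf]
  -- `S ∩ K` is normalised by `H`
  set W := S ⊓ K with hW
  have hHW : ∀ u ∈ H, ∀ w ∈ W, u * w * u⁻¹ ∈ W := by
    intro u hu w hw
    have hK' := hKn.conj_mem w hw.2 u
    have h1 : (⟨_, hK'⟩ : K) ∈ Q := hQel _ (mul_mem (mul_mem hu (h.sylow_le (h.closed.1 hw.1))) (inv_mem hu))
      ((isPGroup_conj (T.isPGroup'.to_le h.closed.1) hw.1 u).comap_subtype.of_equiv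
        (MulEquiv.subgroupCongr (by
          ext y
          simp only [mem_subgroupOf, mem_zpowers_iff]
          exact ⟨fun ⟨i, hi⟩ => ⟨i, Subtype.ext hi⟩, fun ⟨i, hi⟩ => ⟨i, congrArg Subtype.val hi⟩⟩)))
    exact ⟨h.conj_mem hw.1 ((hQT _).1 h1), hK'⟩
  have hW1 : ∀ g ∈ stabilizer K (((1 : K) : K ⧸ M)), ∀ w ∈ W.subgroupOf K, g * w * g⁻¹ ∈ W.subgroupOf K :=
    fun g hg w hw => mem_subgroupOf.2 (hHW g (by rw [hstab] at hg; exact hg) w hw)
  have hW2 : W.subgroupOf K ≤ Q := fun w hw => (hQT w).2 (h.closed.1 hw.1)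
  have hW3 : ∀ y ∈ Q, y * y = 1 → y ∈ W.subgroupOf K := fun y hy hyy =>
    ⟨hinv y ((hQT y).1 hy) y.2 (congrArg Subtype.val hyy), y.2⟩
  have halt : (∀ q ∈ (T : Subgroup G), q ∈ K → q ∈ S) ∨
      ((∀ w ∈ W, w * w = 1) ∧ ¬ ∀ q ∈ Q, q * q = 1) := by
    by_cases hel : ∀ q ∈ Q, q * q = 1
    · exact Or.inl fun q hq hqK => (hW3 ⟨q, hqK⟩ ((hQT _).2 hq) (hel _ ((hQT _).2 hq))).1
    rcases invariant_kernel hs hK2 hW2 hW1 hW3 with e | e
    · exact Or.inl fun q hq hqK => ((e.ge ((hQT ⟨q, hqK⟩).2 hq)) : q ∈ W).1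
    · exact Or.inr ⟨fun w hw => congrArg Subtype.val (e ⟨w, hw.2⟩ hw), hel⟩
  have hSle : S ≤ K := by
    intro x hxS
    by_contra hxK
    have hxT := h.closed.1 hxS
    have hxH := h.sylow_le hxT
    -- it is enough to find `v ∈ S ∖ K` with `t⁻¹ v t ∈ H`
    have hbad : ∀ v ∈ S, v ∉ K → (t : G)⁻¹ * v * t ∈ H → False := fun v hv hvK hvt =>
      htH (by
        have h1 : (t : G)⁻¹ * v * (t : G)⁻¹⁻¹ ∈ H := by rwa [inv_inv]
        exact H.inv_mem_iff.1 (h.mem_of_conj_mem hv (fun e => hvK (e ▸ one_mem _)) h1))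
    rcases halt with hTS | ⟨hWsq, hna⟩
    · have hxtK : x * t * x⁻¹ ∈ K := hKn.conj_mem t t.2 x
      have hne : ((⟨_, hxtK⟩ : K) : K ⧸ M) ≠ ((1 : K) : K ⧸ M) := by
        rw [Ne, QuotientGroup.eq, mul_one]
        intro e
        have e' : (x * t * x⁻¹)⁻¹ ∈ H := e
        exact htH (by simpa [mul_assoc] using mul_mem (mul_mem (inv_mem hxH) (H.inv_mem_iff.1 e')) hxH)
      obtain ⟨q, hq, hqe⟩ := exists_smul_eq hs hne
      rw [MulAction.Quotient.smul_coe, MulAction.Quotient.smul_coe, smul_eq_mul, smul_eq_mul, mul_one,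
        QuotientGroup.eq] at hqe
      have hqe' : ((q : G) * t)⁻¹ * (x * t * x⁻¹) ∈ H := hqe
      have hqS : (q : G)⁻¹ ∈ S := inv_mem (hTS _ ((hQT q).1 hq) q.2)
      refine hbad _ (mul_mem hqS hxS) (fun e => hxK ?_) ?_
      · have := mul_mem q.2 e; rwa [mul_inv_cancel_left] at this
      · have := mul_mem hqe' hxH
        rwa [show ((q : G) * t)⁻¹ * (x * t * x⁻¹) * x = (t : G)⁻¹ * ((q : G)⁻¹ * x) * t by group] at this
    -- now `S ∩ K` has exponent two
    let triv : G → Prop := fun g => g ∈ H ∧ ∀ q ∈ (T : Subgroup G), q ∈ K → g * q * g⁻¹ * q⁻¹ ∈ W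
    have tmul : ∀ g g', triv g → triv g' → triv (g * g') := fun g g' hg hg' => ⟨mul_mem hg.1 hg'.1,
      fun q hq hqK => by
        have := mul_mem (hHW g hg.1 _ (hg'.2 q hq hqK)) (hg.2 q hq hqK)
        rwa [show g * (g' * q * g'⁻¹ * q⁻¹) * g⁻¹ * (g * q * g⁻¹ * q⁻¹)
          = g * g' * q * (g * g')⁻¹ * q⁻¹ by group] at this⟩
    have tinv : ∀ g, triv g → triv g⁻¹ := fun g hg => ⟨inv_mem hg.1, fun q hq hqK => by
      have := hHW g⁻¹ (inv_mem hg.1) _ (inv_mem (hg.2 q hq hqK))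
      rwa [show g⁻¹ * (g * q * g⁻¹ * q⁻¹)⁻¹ * g⁻¹⁻¹ = g⁻¹ * q * g⁻¹⁻¹ * q⁻¹ by group] at this⟩
    have tconj : ∀ u ∈ H, ∀ g, triv g → triv (u * g * u⁻¹) := fun u hu g hg =>
      ⟨mul_mem (mul_mem hu hg.1) (inv_mem hu), fun q hq hqK => by
        have hq' : (⟨_, hKn.conj_mem q hqK u⁻¹⟩ : K) ∈ Q := by
          have hqQ := (hQT ⟨q, hqK⟩).2 hq
          refine hQel _ (mul_mem (mul_mem (inv_mem hu) (h.sylow_le hq)) (inv_mem (inv_mem hu))) ?_
          refine ((T.isPGroup'.to_le (zpowers_le.2 hq)).map (MulAut.conj u⁻¹).toMonoidHom).comap_subtype.to_le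
            (zpowers_le.2 (mem_subgroupOf.2 (mem_map_of_mem _ (mem_zpowers q))))
        have := hHW u hu _ (hg.2 _ ((hQT _).1 hq') (hKn.conj_mem q hqK u⁻¹))
        rwa [show u * (g * (u⁻¹ * q * u⁻¹⁻¹) * g⁻¹ * (u⁻¹ * q * u⁻¹⁻¹)⁻¹) * u⁻¹
          = u * g * u⁻¹ * q * (u * g * u⁻¹)⁻¹ * q⁻¹ by group] at this⟩
    have tx : triv x := ⟨hxH, fun q hq hqK => ⟨by
        have hqx : q * x⁻¹ * q⁻¹ ∈ S := h.conj_mem (inv_mem hxS)
          (mul_mem (mul_mem hq (inv_mem hxT)) (inv_mem hq))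
        have := mul_mem hxS hqx
        rwa [show x * (q * x⁻¹ * q⁻¹) = x * q * x⁻¹ * q⁻¹ by group] at this,
      K.mul_mem (hKn.conj_mem q hqK x) (K.inv_mem hqK)⟩⟩
    have tQ : ∀ q : K, q ∈ Q → triv q := fun q hq => ⟨h.sylow_le ((hQT q).1 hq), fun r hr hrK =>
      hW3 (q * ⟨r, hrK⟩ * q⁻¹ * ⟨r, hrK⟩⁻¹)
        (mul_mem (mul_mem (mul_mem hq ((hQT _).2 hr)) (inv_mem hq)) (inv_mem ((hQT _).2 hr)))
        (commutator_sq hs hK2 hq ((hQT _).2 hr))⟩
    -- `[D, x] ≤ S ∩ K`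
    have hdx : ∀ d : K, d ∈ stabilizer K (((1 : K) : K ⧸ M)) ⊓ stabilizer K (t • ((1 : K) : K ⧸ M)) →
        (d : G) * x * (d : G)⁻¹ * x⁻¹ ∈ W := by
      intro d hd
      have hdH : (d : G) ∈ H := by have := hd.1; rwa [hstab] at this
      have hcK : x * d * x⁻¹ * (d : G)⁻¹ ∈ K := mul_mem (hKn.conj_mem d d.2 x) (inv_mem d.2)
      set c : K := ⟨_, hcK⟩
      have tc : triv c := by
        have := tmul _ _ tx (tconj d hdH _ (tinv x tx))
        rwa [show x * ((d : G) * x⁻¹ * (d : G)⁻¹) = x * d * x⁻¹ * (d : G)⁻¹ by group] at this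
      obtain ⟨p, hp, e, he, hpe⟩ := exists_decomp hs (hMmem c tc.1)
      have te : triv e := by
        have h1 := tmul _ _ (tinv _ (tQ p hp)) tc
        rwa [← hpe, coe_mul, inv_mul_cancel_left] at h1
      have he1 : e = 1 := dd_eq_one_of_trivial hs hK2 hna he fun q hq =>
        Subtype.ext (hWsq _ (te.2 q ((hQT q).1 hq) q.2))
      rw [he1, mul_one] at hpe
      have hcT : x * d * x⁻¹ * (d : G)⁻¹ ∈ (T : Subgroup G) := (hQT c).1 (hpe ▸ hp)
      have h1 : (d : G) * x * (d : G)⁻¹ ∈ S := h.conj_mem hxS (by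
        have := mul_mem (inv_mem hcT) hxT
        rwa [show (x * d * x⁻¹ * (d : G)⁻¹)⁻¹ * x = (d : G) * x * (d : G)⁻¹ by group] at this)
      refine ⟨S.mul_mem h1 (S.inv_mem hxS), ?_⟩
      have := inv_mem hcK
      rwa [show (x * d * x⁻¹ * (d : G)⁻¹)⁻¹ = (d : G) * x * (d : G)⁻¹ * x⁻¹ by group] at this
    -- an element of `K` fixes a point of the coset `W x`
    obtain ⟨p, hp, k, hk, hkp⟩ := exists_kk_prime hs hK2
    haveI : Fact p.Prime := ⟨hp⟩
    have hk1 : k ≠ 1 := fun e => hp.ne_one (by rw [← hkp, e, orderOf_one])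
    have hkH : (k : G) ∈ H := by have := hk.1.1; rwa [hstab] at this
    classical
    let X := {v : G // v * x⁻¹ ∈ W}
    haveI := Fintype.ofFinite X
    have hmap : ∀ v : X, (k : G) * v.1 * (k : G)⁻¹ * x⁻¹ ∈ W := fun v => by
      have := mul_mem (hHW k hkH _ v.2) (hdx k hk.1)
      rwa [show (k : G) * (v.1 * x⁻¹) * (k : G)⁻¹ * ((k : G) * x * (k : G)⁻¹ * x⁻¹)
        = (k : G) * v.1 * (k : G)⁻¹ * x⁻¹ by group] at this
    let σ : Equiv.Perm X := Equiv.ofBijective (fun v => ⟨_, hmap v⟩) (Finite.injective_iff_bijective.1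
      fun v v' e => Subtype.ext (mul_left_cancel (mul_right_cancel (congrArg Subtype.val e))))
    have hσ : ∀ (n : ℕ) (v : X), ((σ ^ n) v).1 = (k : G) ^ n * v.1 * ((k : G) ^ n)⁻¹ := by
      intro n
      induction n with
      | zero => simp
      | succ n ih =>
        intro v
        rw [pow_succ', Equiv.Perm.mul_apply]
        show (k : G) * ((σ ^ n) v).1 * (k : G)⁻¹ = _
        rw [ih, pow_succ']; group
    have hcard : ¬ p ∣ Fintype.card X := by
      have e : X ≃ W :=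
        { toFun := fun v => ⟨_, v.2⟩
          invFun := fun w => ⟨w.1 * x, by rw [mul_inv_cancel_right]; exact w.2⟩
          left_inv := fun v => Subtype.ext (inv_mul_cancel_right _ _)
          right_inv := fun w => Subtype.ext (mul_inv_cancel_right _ _) }
      obtain ⟨n, hn⟩ := IsPGroup.iff_card.1 ((T.isPGroup'.to_le h.closed.1).to_le (inf_le_left : W ≤ S))
      rw [← Nat.card_eq_fintype_card, Nat.card_congr e, hn]
      intro hd
      have hpodd : Odd p := hs.odd_card.of_dvd_nat (hkp ▸ Subgroup.orderOf_dvd_natCard _ hk.1)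
      have h22 := (Nat.prime_dvd_prime_iff_eq hp Nat.prime_two).1 (hp.dvd_of_dvd_pow hd)
      subst h22
      exact (by decide : ¬ Odd 2) hpodd
    obtain ⟨v, hv⟩ := Equiv.Perm.exists_fixed_point_of_prime hcard (σ := σ) (n := 1) (Equiv.ext fun v =>
      Subtype.ext (by
        rw [hσ, pow_one, ← hkp, ← orderOf_coe, pow_orderOf_eq_one, one_mul, inv_one, mul_one]; rfl))
    have hkv : (k : G) * v.1 * (k : G)⁻¹ = v.1 := congrArg Subtype.val hv
    have hvS : v.1 ∈ S := by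
      have := mul_mem v.2.1 hxS
      rwa [inv_mul_cancel_right] at this
    have hvK : v.1 ∉ K := fun e => hxK (by
      have := K.mul_mem (K.inv_mem v.2.2) e
      rwa [mul_inv_rev, inv_inv, inv_mul_cancel_right] at this)
    have hvt : v.1 * t * v.1⁻¹ ∈ K := hKn.conj_mem t t.2 v.1
    have hvH : v.1 ∈ H := h.sylow_le (h.closed.1 hvS)
    have hfix : k • ((⟨_, hvt⟩ : K) : K ⧸ M) = ((⟨_, hvt⟩ : K) : K ⧸ M) := by
      rw [MulAction.Quotient.smul_coe, smul_eq_mul, QuotientGroup.eq]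
      show ((k : G) * (v.1 * t * v.1⁻¹))⁻¹ * (v.1 * t * v.1⁻¹) ∈ H
      have htk : (t : G) * k * (t : G)⁻¹ = (k : G)⁻¹ := congrArg Subtype.val hk.2
      have : ((k : G) * (v.1 * t * v.1⁻¹))⁻¹ * (v.1 * t * v.1⁻¹) = (k : G) := by
        have htt : (t : G) * t = 1 := congrArg Subtype.val hs.mul_self
        have hc' : Commute (k : G) v.1 := mul_inv_eq_iff_eq_mul.1 hkv
        calc ((k : G) * (v.1 * t * v.1⁻¹))⁻¹ * (v.1 * t * v.1⁻¹)
            = v.1 * ((t : G)⁻¹ * (v.1⁻¹ * (k : G)⁻¹ * v.1) * t) * v.1⁻¹ := by group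
          _ = v.1 * (k : G) * v.1⁻¹ := by
              rw [hc'.symm.inv_left.inv_right.eq, inv_mul_cancel_right, ← htk]; group
          _ = k := by rw [← hc'.eq, mul_inv_cancel_right]
      rw [this]; exact hkH
    rcases fixed_of_commute_kk hs hk hk1 hfix with e | e
    · rw [QuotientGroup.eq, mul_one] at e
      have e' : (v.1 * t * v.1⁻¹)⁻¹ ∈ H := e
      exact htH (by simpa [mul_assoc] using mul_mem (mul_mem (inv_mem hvH) (H.inv_mem_iff.1 e')) hvH)
    · rw [MulAction.Quotient.smul_coe, smul_eq_mul, mul_one, QuotientGroup.eq] at e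
      have e' : (v.1 * t * v.1⁻¹)⁻¹ * t ∈ H := e
      refine hbad _ hvS hvK ?_
      have h1 := mul_mem (inv_mem e') hvH
      rwa [show ((v.1 * t * v.1⁻¹)⁻¹ * t)⁻¹ * v.1 = (t : G)⁻¹ * v.1 * t by group] at h1
  have hX : normalClosure (S : Set G) = K :=
    le_antisymm (normalClosure_le_normal hSle) (normalClosure_mono (Set.singleton_subset_iff.2 hzS))
  rw [hX]
  refine ⟨hse, hcore, ?_, hinv, ?_⟩
  · refine map_injective (subtype_injective K) (le_antisymm (map_mono le_top) ?_)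
    rw [← MonoidHom.range_eq_map, range_subtype, hKdef, Subgroup.normalClosure, closure_le]
    intro y hy
    obtain ⟨a, rfl, hya⟩ := Group.mem_conjugatesOfSet_iff.1 hy
    obtain ⟨g, rfl⟩ := isConj_iff.1 hya
    exact ⟨⟨_, hKn.conj_mem _ hzK g⟩, subset_closure (show orderOf (⟨_, hKn.conj_mem _ hzK g⟩ : K) = 2 by
      rw [orderOf_mk, Involution.orderOf_conj]; exact hz2), rfl⟩
  · rcases halt with hTS | ⟨hWsq, -⟩
    · exact Or.inl fun q hq => hTS q hq.1 hq.2
    · exact Or.inr fun s hs => hWsq s ⟨hs, hSle hs⟩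

end Cfsg.Agent.StrongClosedNC
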