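import Cfsg.Agent.Lib.StrongClosedNC.Image
import Cfsg.Agent.Lib.Bender.StrongClosure
import Cfsg.Agent.Lib.Coprime.Generation
/-!
# Quotients of the hypotheses of S3289 (owner: helper2)

* `ClosedSetup.eq_one_of_mem_normal` : `S` meets a normal subgroup inside `H` trivially
* `ClosedSetup.descend` : the hypotheses pass to a quotient by a normal subgroup inside `H`
* `ClosedSetup.oddCore_le` : `O(G) ≤ H` if `S` has two involutions
-/

set_option autoImplicit false
set_option linter.style.haveILetI false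
set_option linter.unusedSectionVars false

namespace Cfsg.Agent.StrongClosedNC

open Subgroup Cfsg.Agent.Bender

universe u v

/-- `S` has two involutions. -/
def TwoInv {G : Type*} [Group G] (S : Subgroup G) : Prop :=
  ∃ x ∈ S, ∃ y ∈ S, x * x = 1 ∧ y * y = 1 ∧ x ≠ 1 ∧ y ≠ 1 ∧ x ≠ y

variable {G : Type u} [Group G] [Finite G] {T : Sylow 2 G} {S H : Subgroup G}

/-- An element of `S#` in a normal subgroup inside `H` would have all its conjugates in `H`. -/
theorem eq_one_of_mem_normal (h : ClosedSetup T S H) {N : Subgroup G} [hN : N.Normal] (hNH : N ≤ H)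
    {s : G} (hs : s ∈ S) (hsN : s ∈ N) : s = 1 := by
  by_contra hs1
  exact h.proper (eq_top_iff.2 fun g _ => h.mem_of_conj_mem hs hs1 (hNH (hN.conj_mem s hsN g)))

theorem inj_of_ker_le (h : ClosedSetup T S H) {G' : Type v} [Group G'] (f : G →* G') (hker : f.ker ≤ H)
    {s : G} (hs : s ∈ S) (e : f s = 1) : s = 1 :=
  eq_one_of_mem_normal h hker hs e

theorem mem_of_map_mem (h : ClosedSetup T S H) {G' : Type v} [Group G'] (f : G →* G') (hker : f.ker ≤ H)
    {x : G} (hx : f x ∈ H.map f) : x ∈ H := by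
  have hx' : x ∈ (H.map f).comap f := hx
  rwa [comap_map_eq_self hker] at hx'

/-- The hypotheses pass to a quotient by a normal subgroup inside `H`. -/
theorem descend (h : ClosedSetup T S H) {G' : Type v} [Group G'] [Finite G'] (f : G →* G')
    (hf : Function.Surjective f) (hker : f.ker ≤ H) :
    ClosedSetup (T.mapSurjective hf) (S.map f) (H.map f) where
  ne_bot e := by
    obtain ⟨z, hz, hz2, -⟩ := h.exists_central
    have h1 : f z ∈ S.map f := mem_map_of_mem f hz
    rw [e, mem_bot] at h1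
    rw [inj_of_ker_le h f hker hz h1, orderOf_one] at hz2
    omega
  closed := map_stronglyClosed h.closed f hf
  proper e := h.proper (eq_top_iff.2 fun g _ => mem_of_map_mem h f hker (e ▸ mem_top _))
  cent := by
    rintro _ ⟨s, hs, rfl⟩ hs1 x' hx'
    obtain ⟨x, rfl⟩ := hf x'
    have hs1' : s ≠ 1 := fun e => hs1 (by rw [e, map_one])
    refine mem_map_of_mem f (h.mem_of_conj_mem hs hs1' (mem_of_map_mem h f hker ?_))
    rw [map_mul, map_mul, map_inv, mem_centralizer_singleton_iff.1 hx', mul_inv_cancel_right]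
    exact mem_map_of_mem f (h.sylow_le (h.closed.1 hs))
  norm := by
    intro x' hx'
    obtain ⟨x, rfl⟩ := hf x'
    obtain ⟨z, hz, hz2, -⟩ := h.exists_central
    have hz1 : z ≠ 1 := fun e => by rw [e, orderOf_one] at hz2; omega
    have hmem : f z ∈ Cfsg.omegaOne 2 (S.map f) := subset_closure
      ⟨mem_map_of_mem f hz, by rw [← map_pow, ← hz2, pow_orderOf_eq_one, map_one]⟩
    have hle : Cfsg.omegaOne 2 (S.map f) ≤ H.map f :=
      ((closure_le _).2 fun y hy => hy.1).trans (map_mono (h.closed.1.trans h.sylow_le))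
    refine mem_map_of_mem f (h.mem_of_conj_mem hz hz1 (mem_of_map_mem h f hker ?_))
    rw [map_mul, map_mul, map_inv]
    exact hle ((mem_normalizer_iff.1 hx' _).1 hmem)

/-- If `S` has two involutions then `O(G) ≤ H`. -/
theorem oddCore_le (h : ClosedSetup T S H) (h2 : TwoInv S) : Cfsg.pPrimeCore 2 G ≤ H := by
  obtain ⟨z, hzS, hz2, hzc⟩ := h.exists_central
  have hz1 : z ≠ 1 := fun e => by rw [e, orderOf_one] at hz2; omega
  obtain ⟨x, hxS, hxx, hx1, hxz⟩ : ∃ x ∈ S, x * x = 1 ∧ x ≠ 1 ∧ x ≠ z := by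
    obtain ⟨x, hx, y, hy, hxx, hyy, hx1, hy1, hne⟩ := h2
    rcases eq_or_ne x z with e | e
    · exact ⟨y, hy, hyy, hy1, fun e' => hne (e.trans e'.symm)⟩
    · exact ⟨x, hx, hxx, hx1, e⟩
  have hzz : z * z = 1 := by rw [← pow_two, ← hz2, pow_orderOf_eq_one]
  have hcomm : Commute x z := hzc x (h.closed.1 hxS)
  haveI : IsMulCommutative (closure ({x, z} : Set G)) := isMulCommutative_closure <| by
    intro a ha b hb
    rcases ha with ha | ha <;> rcases hb with hb | hb <;> rw [ha, hb]
    · exact hcomm.eq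
    · exact hcomm.eq.symm
  set A := closure ({x, z} : Set G)
  have hAS : A ≤ S := (closure_le _).2 (by rintro a (ha | ha) <;> rw [ha] <;> assumption)
  haveI : (Cfsg.pPrimeCore 2 G).Normal := Cfsg.pPrimeCore_normal 2 G
  haveI : Fact (Nat.Prime 2) := ⟨Nat.prime_two⟩
  refine Coprime.le_of_pair (A := A) (p := 2) ?_ ?_ Nat.prime_two (subset_closure (Or.inl rfl))
    (subset_closure (Or.inr rfl)) ?_ ?_ ?_
  · rw [normalizer_eq_top]; exact le_top
  · obtain ⟨k, hk⟩ := IsPGroup.iff_card.1 ((T.isPGroup'.to_le h.closed.1).to_le hAS)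
    rw [hk]
    exact (Cores.coprime_card_pPrimeCore (G := G) 2).symm.pow_left k
  · rw [pow_two, hxx]; exact one_mem _
  · rw [pow_two, hzz]; exact one_mem _
  intro i j hij
  refine inf_le_right.trans (h.cent _ (mul_mem (pow_mem hxS i) (pow_mem hzS j)) ?_)
  have hpow : ∀ {w : G}, w * w = 1 → ∀ n, w ^ n = if 2 ∣ n then 1 else w := by
    intro w hw n
    split_ifs with hn
    · obtain ⟨m, rfl⟩ := hn; rw [pow_mul, pow_two, hw, one_pow]
    · obtain ⟨m, rfl⟩ : Odd n := by rwa [← Nat.not_even_iff_odd, even_iff_two_dvd]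
      rw [pow_succ, pow_mul, pow_two, hw, one_pow, one_mul]
  rw [hpow hxx, hpow hzz]
  split_ifs with hi hj hj
  · exact (hij ⟨hi, hj⟩).elim
  · rwa [one_mul]
  · rwa [mul_one]
  · exact fun e => hxz (by rw [← mul_one x, ← hzz, ← mul_assoc, e, one_mul])

end Cfsg.Agent.StrongClosedNC
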