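import Cfsg.Agent.Lib.StrongClosedNC.RankOne
/-!
# `S = T ∩ ⟨S^G⟩` for a strongly closed 2-subgroup with one involution (owner: helper2)
-/

set_option autoImplicit false
set_option linter.style.haveILetI false
set_option linter.unusedSectionVars false

namespace Cfsg.Agent.StrongClosedNC

open Subgroup

universe u

/-- A cyclic group has at most one involution. -/
theorem eq_of_isCyclic {C : Type*} [Group C] [Finite C] [IsCyclic C] {x y : C} (hx : x * x = 1)
    (hy : y * y = 1) (hx1 : x ≠ 1) (hy1 : y ≠ 1) : x = y := by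
  by_contra hne
  classical
  haveI := Fintype.ofFinite C
  have h := IsCyclic.card_pow_eq_one_le (α := C) (n := 2) two_pos
  have hsub : ({1, x, y} : Finset C) ⊆ Finset.univ.filter (fun a : C => a ^ 2 = 1) := by
    intro w hw
    simp only [Finset.mem_insert, Finset.mem_singleton] at hw
    rcases hw with rfl | rfl | rfl <;> simp [sq, hx, hy]
  have := (Finset.card_le_card hsub).trans h
  rw [Finset.card_insert_of_notMem (by simp [hx1.symm, hy1.symm]), Finset.card_pair hne] at this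
  omega

/-- Descent to a quotient by `N` with `T ∩ N ≤ S`. -/
theorem le_of_map_le {G H : Type*} [Group G] [Group H] {T S K : Subgroup G} (f : G →* H)
    (hT : S ≤ T) (hker : T ⊓ f.ker ≤ S) (h : (T ⊓ K).map f ≤ S.map f) : T ⊓ K ≤ S := by
  intro x hx
  obtain ⟨s, hs, e⟩ := h (mem_map_of_mem f hx)
  have h1 : s⁻¹ * x ∈ f.ker := by rw [MonoidHom.mem_ker, map_mul, map_inv, e, inv_mul_cancel]
  have := mul_mem hs (hker ⟨T.mul_mem (T.inv_mem (hT hs)) hx.1, h1⟩)
  rwa [mul_inv_cancel_left] at this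

theorem inf_normalClosure_le_aux (n : ℕ) : ∀ (G : Type u) [Group G] [Finite G] (T : Sylow 2 G)
    (S : Subgroup G), Nat.card G = n → Cfsg.IsStronglyClosed S (T : Subgroup G) →
    (∀ x y, x ∈ S → y ∈ S → x * x = 1 → y * y = 1 → x ≠ 1 → y ≠ 1 → x = y) →
    (T : Subgroup G) ⊓ normalClosure (S : Set G) ≤ S := by
  induction n using Nat.strong_induction_on with
  | _ n ih =>
  intro G _ _ T S hn hS hu
  haveI : Fact (Nat.Prime 2) := ⟨Nat.prime_two⟩
  -- recursion to a quotient
  have step : ∀ (N : Subgroup G) [N.Normal], N ≠ ⊥ → (T : Subgroup G) ⊓ N ≤ S →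
      (∀ x y, x ∈ S.map (QuotientGroup.mk' N) → y ∈ S.map (QuotientGroup.mk' N) →
        x * x = 1 → y * y = 1 → x ≠ 1 → y ≠ 1 → x = y) →
      (T : Subgroup G) ⊓ normalClosure (S : Set G) ≤ S := by
    intro N _ hN hTN hu'
    set f := QuotientGroup.mk' N
    have hf : Function.Surjective f := QuotientGroup.mk'_surjective N
    have hlt : Nat.card (G ⧸ N) < n := by
      rw [← hn, Subgroup.card_eq_card_quotient_mul_card_subgroup N]
      exact lt_mul_of_one_lt_right Nat.card_pos (Subgroup.one_lt_card_iff_ne_bot N |>.2 hN)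
    have h := ih _ hlt (G ⧸ N) (T.mapSurjective hf) (S.map f) rfl (map_stronglyClosed hS f hf) hu'
    refine le_of_map_le f hS.1 (by rw [QuotientGroup.ker_mk']; exact hTN) ?_
    refine le_trans ?_ h
    refine (Subgroup.map_inf_le _ _ f).trans (inf_le_inf le_rfl ?_)
    rw [Subgroup.map_normalClosure _ f hf, Subgroup.coe_map]
  by_cases hO : Cfsg.pPrimeCore 2 G = ⊥
  swap
  · haveI : (Cfsg.pPrimeCore 2 G).Normal := Cores.pPrimeCore_normal 2 G
    have hTO : ∀ x ∈ (T : Subgroup G), x ∈ Cfsg.pPrimeCore 2 G → x = 1 := by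
      intro x hx hxO
      obtain ⟨e, he⟩ := IsPGroup.iff_orderOf.1 T.isPGroup' ⟨x, hx⟩
      rw [← Subgroup.orderOf_coe] at he
      exact orderOf_eq_one_iff.1 (Nat.eq_one_of_dvd_coprimes
        (((Cores.coprime_card_pPrimeCore (G := G) 2)).symm.pow_left e) (he ▸ dvd_rfl)
        ((Subgroup.orderOf_coe (⟨x, hxO⟩ : Cfsg.pPrimeCore 2 G)).symm ▸ orderOf_dvd_natCard _))
    refine step _ hO (fun x hx => (hTO x hx.1 hx.2) ▸ one_mem _) ?_
    rintro _ _ ⟨x, hx, rfl⟩ ⟨y, hy, rfl⟩ hxx hyy hx1 hy1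
    have hinj : ∀ w ∈ (T : Subgroup G), QuotientGroup.mk' (Cfsg.pPrimeCore 2 G) w = 1 → w = 1 :=
      fun w hw h => hTO w hw ((QuotientGroup.eq_one_iff w).1 h)
    rw [← map_mul] at hxx hyy
    rw [hu x y hx hy (hinj _ (mul_mem (hS.1 hx) (hS.1 hx)) hxx)
      (hinj _ (mul_mem (hS.1 hy) (hS.1 hy)) hyy) (fun e => hx1 (by rw [e, map_one]))
      (fun e => hy1 (by rw [e, map_one]))]
  rcases eq_or_ne S ⊥ with rfl | hne
  · exact inf_le_right.trans (Subgroup.normalClosure_le_normal (by simp))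
  haveI : Nontrivial S := (Subgroup.nontrivial_iff_ne_bot S).2 hne
  have hS2 : IsPGroup 2 S := T.isPGroup'.to_le hS.1
  obtain ⟨z, hz⟩ := exists_prime_orderOf_dvd_card' (G := S) 2 (by
    obtain ⟨m, hm, e⟩ := hS2.nontrivial_iff_card.1 inferInstance
    rw [e]; exact dvd_pow_self 2 hm.ne')
  have hz2 : orderOf (z : G) = 2 := (Subgroup.orderOf_coe z).trans hz
  have hzT : (z : G) ∈ (T : Subgroup G) := hS.1 z.2
  have hz1 : (z : G) ≠ 1 := fun e => by rw [e, orderOf_one] at hz2; omega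
  have hzz : (z : G) * z = 1 := by rw [← sq, ← hz2, pow_orderOf_eq_one]
  have hiso : Cfsg.IsIsolatedInvolution (z : G) := ZStar.isolated_of_sylow T hz2 hzT fun g hg =>
    hu _ _ (hS.2 _ z.2 g hg) z.2 (by
      rw [show g * z * g⁻¹ * (g * z * g⁻¹) = g * ((z : G) * z) * g⁻¹ by group, hzz]; group) hzz
      (fun e => hz1 (conj_eq_one_iff.1 e)) hz1
  have hzc : (z : G) ∈ center G :=
    ZStar.isolated_mem_center ZStarPrimePower.uniqueInvolutionZStar_proved hiso hO
  by_cases hc : IsCyclic S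
  swap
  · exact inf_le_of_central hS hu hO hc z.2 hz2 hzc
  haveI : (zpowers (z : G)).Normal := ⟨fun m hm g => by
    rwa [mem_center_iff.1 ((zpowers_le.2 hzc) hm) g, mul_inv_cancel_right]⟩
  refine step _ (zpowers_ne_bot.2 hz1) (inf_le_right.trans (zpowers_le.2 z.2)) ?_
  intro x y hx hy hxx hyy hx1 hy1
  set f := QuotientGroup.mk' (zpowers (z : G))
  haveI : IsCyclic (S.map f) :=
    isCyclic_of_surjective (f.subgroupMap S) (f.subgroupMap_surjective S)
  exact congrArg Subtype.val (eq_of_isCyclic (x := (⟨x, hx⟩ : S.map f)) (y := ⟨y, hy⟩)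
    (Subtype.ext hxx) (Subtype.ext hyy) (fun e => hx1 (congrArg Subtype.val e))
    (fun e => hy1 (congrArg Subtype.val e)))

/-- **A strongly closed 2-subgroup with one involution is Sylow in its normal closure.** -/
theorem eq_inf_normalClosure_of_unique {G : Type u} [Group G] [Finite G] {T : Sylow 2 G}
    {S : Subgroup G} (hS : Cfsg.IsStronglyClosed S (T : Subgroup G))
    (hu : ∀ x y, x ∈ S → y ∈ S → x * x = 1 → y * y = 1 → x ≠ 1 → y ≠ 1 → x = y) :
    S = (T : Subgroup G) ⊓ normalClosure (S : Set G) :=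
  le_antisymm (le_inf hS.1 Subgroup.subset_normalClosure)
    (inf_normalClosure_le_aux _ G T S rfl hS hu)

end Cfsg.Agent.StrongClosedNC
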