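import Cfsg.Agent.Lib.StrongClosedNC.CoreFree
import Cfsg.Agent.Lib.StrongClosedNC.RankOneMain
import Cfsg.Agent.Lib.ClosedPair.Product
import Cfsg.Agent.Lib.TightOddSE.Lifts
/-!
# The normal closure of a strongly closed 2-subgroup in S3289 (owner: helper2)

* `closureShape` : with `K = ⟨S^G⟩`, the involutions of `T ∩ K` lie in `S`, and `T ∩ K = S` or `S` has
  exponent two
* `stronglyEmbedded_inf` : `H ∩ K` is strongly embedded in `K`
-/

set_option autoImplicit false
set_option linter.style.haveILetI false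
set_option linter.unusedSectionVars false

namespace Cfsg.Agent.StrongClosedNC

open Subgroup Cfsg.Agent.Bender

universe u

variable {G : Type u} [Group G] [Finite G] {T : Sylow 2 G} {S H : Subgroup G}

/-- What is proved about `T ∩ X`. -/
def ClosureShape (T : Sylow 2 G) (S X : Subgroup G) : Prop :=
  (∀ x ∈ (T : Subgroup G), x ∈ X → x * x = 1 → x ∈ S) ∧
    ((T : Subgroup G) ⊓ X ≤ S ∨ ∀ s ∈ S, s * s = 1)

theorem twoInv_map (h : ClosedSetup T S H) (h2 : TwoInv S) {G' : Type u} [Group G'] (f : G →* G')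
    (hker : f.ker ≤ H) : TwoInv (S.map f) := by
  obtain ⟨x, hx, y, hy, hxx, hyy, hx1, hy1, hne⟩ := h2
  exact ⟨f x, mem_map_of_mem f hx, f y, mem_map_of_mem f hy, by rw [← map_mul, hxx, map_one],
    by rw [← map_mul, hyy, map_one], fun e => hx1 (inj_of_ker_le h f hker hx e),
    fun e => hy1 (inj_of_ker_le h f hker hy e), fun e => hne (mul_inv_eq_one.1
      (inj_of_ker_le h f hker (mul_mem hx (inv_mem hy)) (by rw [map_mul, map_inv, e, mul_inv_cancel])))⟩

theorem normalCore_map_eq_bot {G' : Type u} [Group G'] (f : G →* G') (hf : Function.Surjective f)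
    (hker : f.ker = H.normalCore) : (H.map f).normalCore = ⊥ := by
  refine (eq_bot_iff_forall _).2 fun y hy => ?_
  obtain ⟨x, rfl⟩ := hf y
  have hle : ((H.map f).normalCore).comap f ≤ H := by
    intro w hw
    have h1 : w ∈ (H.map f).comap f := normalCore_le (H.map f) (mem_comap.1 hw)
    rwa [comap_map_eq_self (by rw [hker]; exact normalCore_le H)] at h1
  have := normal_le_normalCore.2 hle hy
  rwa [← hker] at this

/-- A normal subgroup whose Sylow 2-subgroup is central is a 2-group if `O(G) = 1`. -/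
theorem le_sylow_of_central (hO : Cfsg.pPrimeCore 2 G = ⊥) {L : Subgroup G} [L.Normal]
    (hc : ∀ x ∈ (T : Subgroup G), x ∈ L → ∀ y ∈ L, Commute x y) : L ≤ (T : Subgroup G) := by
  haveI : Fact (Nat.Prime 2) := ⟨Nat.prime_two⟩
  obtain ⟨P, hP⟩ := PReduced.exists_sylow_inf T (C := L) (by rw [normalizer_eq_top]; exact le_top)
  have hPC : normalizer ((P : Subgroup L) : Set L) ≤ centralizer ((P : Subgroup L) : Set L) := by
    intro y _
    rw [mem_centralizer_iff]
    intro x hx
    have hxT : (x : G) ∈ (T : Subgroup G) := by rw [SetLike.mem_coe, hP] at hx; exact hx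
    exact Subtype.ext (hc x hxT x.2 y y.2).eq
  set U := (MonoidHom.transferSylow P hPC).ker
  have hcomp := MonoidHom.ker_transferSylow_isComplement' P hPC
  have hU : U ≤ Cfsg.pPrimeCore 2 L := Cores.le_pPrimeCore (MonoidHom.normal_ker _)
    (Nat.prime_two.coprime_iff_not_dvd.2 (MonoidHom.not_dvd_card_ker_transferSylow P hPC)).symm
  have hU1 : U = ⊥ := by
    have h1 := map_mono (f := L.subtype) hU
    rw [Cores.pPrimeCore_map_subtype, hO, bot_inf_eq, le_bot_iff, map_eq_bot_iff_of_injective _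
      L.subtype_injective] at h1
    exact h1
  rw [show (MonoidHom.transferSylow P hPC).ker = ⊥ from hU1, isComplement'_bot_left] at hcomp
  intro x hx
  have hmem : (⟨x, hx⟩ : L) ∈ (P : Subgroup L) := hcomp ▸ mem_top _
  rw [hP] at hmem
  exact hmem

theorem commute_core (h : ClosedSetup T S H) (hO : Cfsg.pPrimeCore 2 G = ⊥) :
    ∀ k ∈ normalClosure (S : Set G), ∀ w ∈ (T : Subgroup G) ⊓ H.normalCore, Commute k w := by
  have hW : Cfsg.IsStronglyClosed ((T : Subgroup G) ⊓ H.normalCore) (T : Subgroup G) :=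
    ⟨inf_le_left, fun x hx g hg => ⟨hg, (normalCore_normal H).conj_mem x hx.2 g⟩⟩
  have hd : S ⊓ ((T : Subgroup G) ⊓ H.normalCore) = ⊥ := (eq_bot_iff_forall _).2 fun s hs =>
    eq_one_of_mem_normal h (N := H.normalCore) (normalCore_le H) hs.1 hs.2.2
  have hcS : ∀ a ∈ S, ∀ b ∈ (T : Subgroup G) ⊓ H.normalCore, a * b = b * a := by
    intro a ha b hb
    have hba : b * a⁻¹ * b⁻¹ ∈ S := h.conj_mem (inv_mem ha)
      (mul_mem (mul_mem hb.1 (inv_mem (h.closed.1 ha))) (inv_mem hb.1))
    have h1 : a * b * a⁻¹ * b⁻¹ ∈ S := by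
      have := mul_mem ha hba
      rwa [show a * (b * a⁻¹ * b⁻¹) = a * b * a⁻¹ * b⁻¹ by group] at this
    have h2 : a * b * a⁻¹ * b⁻¹ ∈ H.normalCore :=
      mul_mem ((normalCore_normal H).conj_mem b hb.2 a) (inv_mem hb.2)
    exact commutatorElement_eq_one_iff_mul_comm.1
      (eq_one_of_mem_normal h (N := H.normalCore) (normalCore_le H) h1 h2)
  intro k hk w hw
  exact (mem_centralizer_iff.1 (ClosedPair.commute_normalClosure T h.closed hW hcS hd hO hk) w
    (subset_normalClosure hw)).symm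

/-- The shape of `T ∩ K` if `O(G) = 1`. -/
theorem closureShape_of_core (h : ClosedSetup T S H) (h2 : TwoInv S) (hO : Cfsg.pPrimeCore 2 G = ⊥) :
    ClosureShape T S (normalClosure (S : Set G)) := by
  haveI : Fact (Nat.Prime 2) := ⟨Nat.prime_two⟩
  set f := QuotientGroup.mk' H.normalCore
  have hf : Function.Surjective f := QuotientGroup.mk'_surjective _
  have hkerN : f.ker = H.normalCore := QuotientGroup.ker_mk' _
  have hker : f.ker ≤ H := hkerN.le.trans (normalCore_le H)
  have R := coreFree (descend h f hf hker) (normalCore_map_eq_bot f hf hkerN) (twoInv_map h h2 f hker)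
  rw [show normalClosure ((S.map f : Subgroup (G ⧸ H.normalCore)) : Set (G ⧸ H.normalCore))
    = (normalClosure (S : Set G)).map f by rw [coe_map, ← Subgroup.map_normalClosure _ f hf]] at R
  set K := normalClosure (S : Set G)
  have hSK : S ≤ K := subset_normalClosure
  have hKW := commute_core h hO
  haveI : (K ⊓ H.normalCore).Normal := Subgroup.normal_inf_normal _ _
  have hLT : K ⊓ H.normalCore ≤ (T : Subgroup G) := le_sylow_of_central hO fun x hxT hxL y hy =>
    (hKW y hy.1 x ⟨hxT, hxL.2⟩).symm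
  have hLc : ∀ x ∈ K ⊓ H.normalCore, ∀ k ∈ K, Commute k x := fun x hx k hk =>
    hKW k hk x ⟨hLT hx, hx.2⟩
  -- elements of `T ∩ K` over `S`
  have hdec : ∀ x ∈ (T : Subgroup G), x ∈ K → f x ∈ S.map f → ∃ s ∈ S, s⁻¹ * x ∈ K ⊓ H.normalCore := by
    rintro x - hxK ⟨s, hs, e⟩
    refine ⟨s, hs, mem_inf.2 ⟨mul_mem (inv_mem (hSK hs)) hxK, ?_⟩⟩
    rw [← hkerN, MonoidHom.mem_ker, map_mul, map_inv, e, inv_mul_cancel]
  rcases R.alt with hTK | hexp
  · have hle : (T : Subgroup G) ⊓ K ≤ S := inf_normalClosure_le h.closed le_rfl fun k hk x hxT hxK hkx => by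
      obtain ⟨s, hs, hw⟩ := hdec x hxT hxK (hTK ⟨mem_map_of_mem f hxT, mem_map_of_mem f hxK⟩)
      set w := s⁻¹ * x with hwdef
      have hx : x = s * w := by rw [hwdef, mul_inv_cancel_left]
      have hkw : k * w * k⁻¹ = w := by rw [(hLc w hw k hk).eq, mul_inv_cancel_right]
      have hconj : k * x * k⁻¹ = k * s * k⁻¹ * w := by
        calc k * x * k⁻¹ = k * s * k⁻¹ * (k * w * k⁻¹) := by rw [hx]; group
          _ = _ := by rw [hkw]
      have hks : k * s * k⁻¹ ∈ S := h.conj_mem hs (by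
        rw [hconj] at hkx
        simpa using mul_mem hkx (inv_mem (hLT hw)))
      rw [hconj, hx, mul_inv_rev, mul_assoc s, ← mul_assoc w, mul_inv_cancel, one_mul]
      exact mul_mem hs (inv_mem hks)
    exact ⟨fun x hxT hxK _ => hle ⟨hxT, hxK⟩, Or.inl hle⟩
  have hexpS : ∀ s ∈ S, s * s = 1 := fun s hs => inj_of_ker_le h f hker (mul_mem hs hs) (by
    rw [map_mul]; exact hexp _ (mem_map_of_mem f hs))
  obtain ⟨z, hzS, hz2, -⟩ := h.exists_central
  have hz1 := ne_one_of_orderOf hz2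
  set σ : K →* K.map f := f.subgroupMap K with hσdef
  have hσ : ∀ k : K, ((σ k : K.map f) : G ⧸ H.normalCore) = f k := fun _ => rfl
  have hkerσ : ∀ k : K, k ∈ σ.ker → (k : G) ∈ K ⊓ H.normalCore := fun k hk => mem_inf.2 ⟨k.2, by
    rw [← hkerN, MonoidHom.mem_ker, ← hσ, MonoidHom.mem_ker.1 hk, coe_one]⟩
  set D : Set K := {d | ∃ g : G, ∃ s ∈ S, s ≠ 1 ∧ g * s * g⁻¹ = (d : G)}
  have hS2 : IsPGroup 2 S := T.isPGroup'.to_le h.closed.1
  -- commuting elements of `D` move into `S` together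
  have hpair : ∀ d ∈ D, ∀ e ∈ D, Commute (d : G) (e : G) →
      ∃ c : G, c * (d : G) * c⁻¹ ∈ S ∧ c * (e : G) * c⁻¹ ∈ S := by
    rintro d ⟨g, s, hs, -, hd⟩ e ⟨g', s', hs', -, he⟩ hc
    have hle : zpowers (d : G) ≤ normalizer (zpowers (e : G) : Set G) :=
      (zpowers_le.2 (centralizer_le_normalizer _ (mem_centralizer_iff.2 (by
        rintro _ ⟨i, rfl⟩
        exact (hc.symm.zpow_left i).eq))))
    obtain ⟨c, hcT⟩ := ClosedPair.exists_conj_le T (IsPGroup.to_sup_of_normal_right'
      (hd ▸ isPGroup_conj hS2 hs g : IsPGroup 2 (zpowers (d : G)))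
      (he ▸ isPGroup_conj hS2 hs' g' : IsPGroup 2 (zpowers (e : G))) hle)
    refine ⟨c, ?_, ?_⟩
    · have h1 := hcT _ (mem_sup_left (mem_zpowers (d : G)))
      rw [← hd, show c * (g * s * g⁻¹) * c⁻¹ = c * g * s * (c * g)⁻¹ by group] at h1 ⊢
      exact h.conj_mem hs h1
    · have h1 := hcT _ (mem_sup_right (mem_zpowers (e : G)))
      rw [← he, show c * (g' * s' * g'⁻¹) * c⁻¹ = c * g' * s' * (c * g')⁻¹ by group] at h1 ⊢
      exact h.conj_mem hs' h1
  have hmap_ne : ∀ d ∈ D, f (d : G) ≠ 1 := by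
    rintro d ⟨g, s, hs, hs1, hd⟩ e
    refine hs1 (inj_of_ker_le h f hker hs ?_)
    rwa [← hd, map_mul, map_mul, map_inv, conj_eq_one_iff] at e
  have hlifts : TightOddSE.Lifts σ D :=
    { surj := f.subgroupMap_surjective K
      central := fun x hx => mem_center_iff.2 fun k => Subtype.ext (hLc x (hkerσ x hx) k k.2).eq
      inv := by
        rintro d ⟨g, s, hs, hs1, hd⟩
        rw [← orderOf_coe, ← hd, Involution.orderOf_conj]
        exact orderOf_two (hexpS s hs) hs1
      conj_mem := by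
        rintro k d ⟨g, s, hs, hs1, hd⟩
        exact ⟨k * g, s, hs, hs1, by
          rw [coe_mul, coe_mul, coe_inv, ← hd]; group⟩
      ne_one := fun d hd e => hmap_ne d hd (by rw [← hσ, e, coe_one])
      inj := by
        intro d hd e he hde
        have hde' : f d = f e := congrArg Subtype.val hde
        have hn : (d : G)⁻¹ * e ∈ K ⊓ H.normalCore := mem_inf.2 ⟨mul_mem (inv_mem d.2) e.2, by
          rw [← hkerN, MonoidHom.mem_ker, map_mul, map_inv, hde', inv_mul_cancel]⟩
        obtain ⟨c, hcd, hce⟩ := hpair d hd e he (by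
          have := (Commute.refl (d : G)).mul_right (hLc _ hn d d.2)
          rwa [mul_inv_cancel_left] at this)
        have h1 := inj_of_ker_le h f hker (mul_mem (inv_mem hcd) hce) (by
          simp only [map_mul, map_inv, hde']; group)
        exact Subtype.ext (mul_left_cancel (mul_right_cancel (inv_mul_eq_one.1 h1)))
      lift := by
        intro x hx
        have hzo : orderOf (σ ⟨z, hSK hzS⟩) = 2 := orderOf_two (Subtype.ext (by
            rw [coe_mul, coe_one, hσ, ← map_mul, hexpS z hzS, map_one]))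
          fun e => hz1 (inj_of_ker_le h f hker hzS (congrArg Subtype.val e))
        obtain ⟨b, hb⟩ := isConj_iff.1 (Involution.isConj_involutions R.se hzo hx)
        obtain ⟨k, rfl⟩ := f.subgroupMap_surjective K b
        exact ⟨k * ⟨z, hSK hzS⟩ * k⁻¹, ⟨k, z, hzS, hz1, rfl⟩, by rw [map_mul, map_mul, map_inv]; exact hb⟩
      gen := by
        refine map_injective (subtype_injective K) (le_antisymm (map_mono le_top) ?_)
        rw [← MonoidHom.range_eq_map, range_subtype]
        refine (closure_le _).2 fun y hy => ?_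
        obtain ⟨a, ha, hconj⟩ := Group.mem_conjugatesOfSet_iff.1 hy
        obtain ⟨g, rfl⟩ := isConj_iff.1 hconj
        rcases eq_or_ne a 1 with rfl | ha1
        · rw [mul_one, mul_inv_cancel]; exact one_mem _
        · exact ⟨⟨_, (normalClosure_normal (s := (S : Set G))).conj_mem a (hSK ha) g⟩,
            subset_closure ⟨g, a, ha, ha1, rfl⟩, rfl⟩
      mul := by
        intro d hd e he hc hne
        obtain ⟨c, hcd, hce⟩ := hpair d hd e he (congrArg Subtype.val hc.eq)
        refine ⟨c⁻¹, _, mul_mem hcd hce, fun e1 => hne ?_, by rw [coe_mul]; group⟩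
        have h1 := inv_eq_of_mul_eq_one_right e1
        rw [inv_eq_of_mul_eq_one_right (hexpS _ hcd)] at h1
        exact Subtype.ext (mul_left_cancel (mul_right_cancel h1)) }
  have hL1 : ∀ x ∈ K ⊓ H.normalCore, x = 1 := by
    by_contra hne
    push Not at hne
    obtain ⟨x, hx, hx1⟩ := hne
    obtain ⟨j, hj⟩ := IsPGroup.iff_card.1 (T.isPGroup'.to_le hLT)
    have hj0 : j ≠ 0 := fun e => hx1 (by
      rw [e, pow_zero, card_eq_one] at hj
      exact mem_bot.1 (hj ▸ hx))
    obtain ⟨c, hc⟩ := exists_prime_orderOf_dvd_card' 2 (hj ▸ dvd_pow_self 2 hj0)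
    refine hlifts.ker_odd R.se R.core R.gen (c := ⟨c, c.2.1⟩) ?_ ?_
    · rw [orderOf_mk, orderOf_coe]; exact hc
    · refine MonoidHom.mem_ker.2 (Subtype.ext ?_)
      rw [hσ, coe_one, ← MonoidHom.mem_ker, hkerN]
      exact c.2.2
  refine ⟨fun x hxT hxK hxx => ?_, Or.inr hexpS⟩
  obtain ⟨s, hs, hw⟩ := hdec x hxT hxK (R.invol (f x) (mem_map_of_mem f hxT) (mem_map_of_mem f hxK)
    (by rw [← map_mul, hxx, map_one]))
  rwa [← inv_mul_eq_one.1 (hL1 _ hw)]

/-- The shape of `T ∩ K` if `S` has two involutions. -/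
theorem closureShape (h : ClosedSetup T S H) (h2 : TwoInv S) :
    ClosureShape T S (normalClosure (S : Set G)) := by
  haveI : Fact (Nat.Prime 2) := ⟨Nat.prime_two⟩
  set f := QuotientGroup.mk' (Cfsg.pPrimeCore 2 G)
  have hf : Function.Surjective f := QuotientGroup.mk'_surjective _
  have hkerO : f.ker = Cfsg.pPrimeCore 2 G := QuotientGroup.ker_mk' _
  have hker : f.ker ≤ H := hkerO.le.trans (oddCore_le h h2)
  have hTO : ∀ x ∈ (T : Subgroup G), f x = 1 → x = 1 := by
    intro x hx hfx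
    obtain ⟨e, he⟩ := IsPGroup.iff_orderOf.1 T.isPGroup' ⟨x, hx⟩
    rw [← orderOf_coe] at he
    have hxO : x ∈ Cfsg.pPrimeCore 2 G := hkerO ▸ MonoidHom.mem_ker.2 hfx
    exact orderOf_eq_one_iff.1 (Nat.eq_one_of_dvd_coprimes
      ((Cores.coprime_card_pPrimeCore (G := G) 2).symm.pow_left e) (he ▸ dvd_rfl)
      (Subgroup.orderOf_dvd_natCard _ hxO))
  obtain ⟨hinv, halt⟩ := closureShape_of_core (descend h f hf hker) (twoInv_map h h2 f hker)
    (Cores.pPrimeCore_quotient_self 2)
  rw [show normalClosure ((S.map f : Subgroup (G ⧸ Cfsg.pPrimeCore 2 G)) : Set (G ⧸ Cfsg.pPrimeCore 2 G))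
    = (normalClosure (S : Set G)).map f by rw [coe_map, ← Subgroup.map_normalClosure _ f hf]] at hinv halt
  refine ⟨fun x hxT hxK hxx => ?_, halt.imp (fun hle => le_of_map_le f h.closed.1 ?_ ?_) fun he s hs => ?_⟩
  · obtain ⟨s, hs, e⟩ := hinv (f x) (mem_map_of_mem f hxT) (mem_map_of_mem f hxK)
      (by rw [← map_mul, hxx, map_one])
    have := hTO _ (mul_mem (inv_mem (h.closed.1 hs)) hxT) (by rw [map_mul, map_inv, e, inv_mul_cancel])
    rwa [← inv_mul_eq_one.1 this]
  · exact fun x hx => (hTO x hx.1 hx.2).symm ▸ one_mem _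
  · exact (map_inf_le _ _ f).trans hle
  · exact hTO _ (mul_mem (h.closed.1 hs) (h.closed.1 hs))
      (by rw [map_mul]; exact he _ (mem_map_of_mem f hs))

/-- `H ∩ K` is strongly embedded in `K`. -/
theorem stronglyEmbedded_inf (h : ClosedSetup T S H)
    (hinv : ∀ x ∈ (T : Subgroup G), x ∈ normalClosure (S : Set G) → x * x = 1 → x ∈ S) :
    Cfsg.IsStronglyEmbedded ((H ⊓ normalClosure (S : Set G)).subgroupOf (normalClosure (S : Set G))) := by
  obtain ⟨z, hzS, hz2, -⟩ := h.exists_central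
  have hz1 := ne_one_of_orderOf hz2
  have hzK : z ∈ normalClosure (S : Set G) := subset_normalClosure hzS
  refine Aschbacher.isStronglyEmbedded_subgroupOf (fun hle => h.proper (eq_top_iff.2 fun g _ =>
    h.mem_of_conj_mem hzS hz1 (hle (normalClosure_normal.conj_mem z hzK g)).1)) hz2 hzK
    ⟨h.sylow_le (h.closed.1 hzS), hzK⟩ fun s hs hsK hsH k hk hks => ⟨?_, hk⟩
  haveI : Fact (Nat.Prime 2) := ⟨Nat.prime_two⟩
  obtain ⟨u, hu, huT⟩ := h.exists_move (IsPGroup.of_card (p := 2) (n := 1)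
    (by rw [Nat.card_zpowers, hs, pow_one])) (zpowers_le.2 hsH.1)
  have hus := hinv _ (huT s (mem_zpowers s)) (normalClosure_normal.conj_mem s hsK u) (by
    rw [show u * s * u⁻¹ * (u * s * u⁻¹) = u * (s * s) * u⁻¹ by group, sq_of_orderOf hs, mul_one,
      mul_inv_cancel])
  have hus1 : u * s * u⁻¹ ≠ 1 := fun e => ne_one_of_orderOf hs (conj_eq_one_iff.1 e)
  have h1 := h.mem_of_conj_mem hus hus1 (g := k * u⁻¹) (by
    rw [show k * u⁻¹ * (u * s * u⁻¹) * (k * u⁻¹)⁻¹ = k * s * k⁻¹ by group]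
    exact hks.1)
  have := H.mul_mem h1 hu
  rwa [inv_mul_cancel_right] at this

end Cfsg.Agent.StrongClosedNC
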