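import Cfsg.Agent.EqLemmas
import Cfsg.Prelude.Def_TwoFusion
/-!
# Fusion modulo a strongly closed subgroup (owner: helper2)

For a strongly closed subgroup `S` of a Sylow 2-subgroup `T` the fusion in `T` modulo `S` is
controlled by `N(S)`.

* `movers` : the elements normalising `U` that act trivially on `U / (S ∩ U)`
* `fusion_induction` : a transitive symmetric relation on `T` holding for the conjugations by
  `N(S)` and by movers holds for all fusion in `T`
* `exists_normalizer_mod` : fusion in `T` modulo `S` is done inside `N(S)`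
-/

set_option autoImplicit false
set_option linter.style.haveILetI false
set_option linter.unusedSectionVars false

namespace Cfsg.Agent.StrongClosedNC

open Subgroup

variable {G : Type*} [Group G]

/-- The elements of `N(U)` moving each `x ∈ U` inside its `S`-coset. -/
def movers (S U : Subgroup G) (hU : U ≤ normalizer (S : Set G)) : Subgroup G where
  carrier := {a | a ∈ normalizer (U : Set G) ∧ ∀ x ∈ U, a * x * a⁻¹ * x⁻¹ ∈ S}
  one_mem' := ⟨one_mem _, fun x _ => by simp⟩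
  mul_mem' := fun {a b} ha hb => ⟨mul_mem ha.1 hb.1, fun x hx => by
    rw [show a * b * x * (a * b)⁻¹ * x⁻¹
      = a * (b * x * b⁻¹) * a⁻¹ * (b * x * b⁻¹)⁻¹ * (b * x * b⁻¹ * x⁻¹) by group]
    exact mul_mem (ha.2 _ ((mem_normalizer_iff.1 hb.1 x).1 hx)) (hb.2 x hx)⟩
  inv_mem' := fun {a} ha => ⟨inv_mem ha.1, fun x hx => by
    have hx' := (mem_normalizer_iff.1 (inv_mem ha.1) x).1 hx
    rw [inv_inv] at hx'
    have h := inv_mem (ha.2 _ hx')
    rwa [show (a * (a⁻¹ * x * a) * a⁻¹ * (a⁻¹ * x * a)⁻¹)⁻¹ = a⁻¹ * x * a * x⁻¹ by group,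
      ← inv_inv a, inv_inv a⁻¹] at h⟩

theorem mem_movers {S U : Subgroup G} {hU : U ≤ normalizer (S : Set G)} {a : G} :
    a ∈ movers S U hU ↔ a ∈ normalizer (U : Set G) ∧ ∀ x ∈ U, a * x * a⁻¹ * x⁻¹ ∈ S := Iff.rfl

section

variable [Finite G]

/-- An element mapping a finite subgroup into itself normalises it. -/
theorem mem_normalizer_of_maps {U : Subgroup G} {g : G} (h : ∀ x ∈ U, g * x * g⁻¹ ∈ U) :
    g ∈ normalizer (U : Set G) := by
  have he : U.map (MulAut.conj g).toMonoidHom = U :=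
    Subgroup.eq_of_le_of_card_ge (by rintro _ ⟨x, hx, rfl⟩; exact h x hx)
      (le_of_eq (Subgroup.card_map_of_injective (MulAut.conj g).injective).symm)
  refine mem_normalizer_iff.2 fun x => ⟨h x, fun hx => ?_⟩
  rw [← he] at hx
  obtain ⟨y, hy, hyx⟩ := hx
  exact (MulAut.conj g).injective hyx ▸ hy

variable {T : Sylow 2 G} {S : Subgroup G}

theorem sylow_le_normalizer (hS : Cfsg.IsStronglyClosed S (T : Subgroup G)) :
    (T : Subgroup G) ≤ normalizer (S : Set G) := fun _ ht =>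
  mem_normalizer_of_maps fun s hs => hS.2 s hs _ (mul_mem (mul_mem ht (hS.1 hs)) (inv_mem ht))

/-- A proper subgroup of a finite 2-group is properly contained in its normaliser there. -/
theorem lt_inf_normalizer {W U : Subgroup G} (hW : IsPGroup 2 W) (h : U < W) :
    ∃ w ∈ W, w ∉ U ∧ w ∈ normalizer (U : Set G) := by
  haveI := hW.isNilpotent
  have hlt : U.subgroupOf W < ⊤ := lt_top_iff_ne_top.2 fun e =>
    h.not_ge (subgroupOf_eq_top.1 e)
  obtain ⟨⟨w, hw⟩, hn, hnot⟩ := SetLike.exists_of_lt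
    (Group.normalizerCondition_of_isNilpotent (U.subgroupOf W) hlt)
  exact ⟨w, hw, fun hU => hnot (mem_subgroupOf.2 hU), mem_normalizer_of_maps fun x hx =>
    mem_subgroupOf.1 ((mem_normalizer_iff.1 hn ⟨x, h.le hx⟩).1 (mem_subgroupOf.2 hx))⟩

/-- Outside `U` some element of `S` normalises `U`. -/
theorem exists_mem_normalizer (hS : Cfsg.IsStronglyClosed S (T : Subgroup G)) {U : Subgroup G}
    (hU : U ≤ T) (hne : ¬ S ≤ U) : ∃ y ∈ S, y ∉ U ∧ y ∈ normalizer (U : Set G) := by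
  have hlt : U < U ⊔ S := lt_of_le_of_ne le_sup_left fun e => hne (e ▸ le_sup_right)
  obtain ⟨w, hw, hwU, hwn⟩ := lt_inf_normalizer (T.isPGroup'.to_le (sup_le hU hS.1)) hlt
  rw [← SetLike.mem_coe, Subgroup.coe_mul_of_left_le_normalizer_right U S
    (hU.trans (sylow_le_normalizer hS))] at hw
  obtain ⟨u, hu, s, hs, rfl⟩ := hw
  refine ⟨s, hs, fun hsU => hwU (mul_mem hu hsU), ?_⟩
  simpa using mul_mem (inv_mem (Subgroup.le_normalizer hu)) hwn

theorem mem_movers_of_mem (hS : Cfsg.IsStronglyClosed S (T : Subgroup G)) {U : Subgroup G}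
    (hU : U ≤ T) {y : G} (hy : y ∈ S) (hyn : y ∈ normalizer (U : Set G)) :
    y ∈ movers S U (hU.trans (sylow_le_normalizer hS)) :=
  ⟨hyn, fun x hx => by
    rw [show y * x * y⁻¹ * x⁻¹ = y * (x * y⁻¹ * x⁻¹) by group]
    exact mul_mem hy ((mem_normalizer_iff.1 (sylow_le_normalizer hS (hU hx)) _).1 (inv_mem hy))⟩

/-- The 2-subgroups of `N(W)` can be moved into `T` inside `N(W)`. -/
def FullyNormal (T : Sylow 2 G) (W : Subgroup G) : Prop :=
  ∀ V : Subgroup G, V ≤ normalizer (W : Set G) → IsPGroup 2 V →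
    ∃ m ∈ normalizer (W : Set G), ∀ v ∈ V, m * v * m⁻¹ ∈ (T : Subgroup G)

/-- Some conjugate of `U` is fully normalised, by an element moving `N_T(U)` into `T`. -/
theorem exists_fullyNormal {U : Subgroup G} (hU : U ≤ T) :
    ∃ k : G, FullyNormal T (U.map (MulAut.conj k).toMonoidHom) ∧
      (∀ x ∈ (T : Subgroup G) ⊓ normalizer (U : Set G), k * x * k⁻¹ ∈ (T : Subgroup G)) := by
  haveI : Fact (Nat.Prime 2) := ⟨Nat.prime_two⟩
  set N := normalizer (U : Set G) with hN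
  obtain ⟨R, hR⟩ := ((T.isPGroup'.to_le (inf_le_left : (T : Subgroup G) ⊓ N ≤ T)).comap_subtype
    (K := N)).exists_le_sylow
  obtain ⟨R', hR'⟩ := (R.isPGroup'.map N.subtype).exists_le_sylow
  obtain ⟨k, hk⟩ := MulAction.exists_smul_eq G R' T
  have hkR : ∀ x ∈ R', k * x * k⁻¹ ∈ (T : Subgroup G) := fun x hx => by
    have h1 : k * x * k⁻¹ ∈ ((k • R' : Sylow 2 G) : Subgroup G) := ⟨x, hx, rfl⟩
    rwa [hk] at h1
  refine ⟨k, ?_, fun x hx => hkR x (hR' (mem_map_of_mem _ (x := (⟨x, hx.2⟩ : N))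
    (hR (mem_subgroupOf.2 hx))))⟩
  intro V hV hV2
  set W := U.map (MulAut.conj k).toMonoidHom with hW
  have hWN : ∀ g : G, g ∈ normalizer (W : Set G) ↔ k⁻¹ * g * k ∈ N := by
    intro g
    constructor
    · intro hg
      refine mem_normalizer_of_maps fun x hx => ?_
      obtain ⟨y, hy, hyx⟩ := (mem_normalizer_iff.1 hg (k * x * k⁻¹)).1 ⟨x, hx, rfl⟩
      have : y = k⁻¹ * g * k * x * (k⁻¹ * g * k)⁻¹ := by
        have e : k * y * k⁻¹ = g * (k * x * k⁻¹) * g⁻¹ := hyx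
        rw [show y = k⁻¹ * (k * y * k⁻¹) * k by group, e]
        group
      exact this ▸ hy
    · intro hg
      refine mem_normalizer_of_maps ?_
      rintro _ ⟨x, hx, rfl⟩
      refine ⟨_, (mem_normalizer_iff.1 hg x).1 hx, ?_⟩
      show k * (k⁻¹ * g * k * x * (k⁻¹ * g * k)⁻¹) * k⁻¹ = g * (k * x * k⁻¹) * g⁻¹
      group
  have hV' : V.map (MulAut.conj k⁻¹).toMonoidHom ≤ N := by
    rintro _ ⟨v, hv, rfl⟩
    simpa using (hWN v).1 (hV hv)
  obtain ⟨Q, hQ⟩ := ((hV2.map (MulAut.conj k⁻¹).toMonoidHom).comap_subtype (K := N)).exists_le_sylow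
  obtain ⟨m, hm⟩ := MulAction.exists_smul_eq N Q R
  refine ⟨k * m * k⁻¹, (hWN _).2 (by simp [mul_assoc]), fun v hv => ?_⟩
  have hv1 : k⁻¹ * v * k ∈ V.map (MulAut.conj k⁻¹).toMonoidHom := ⟨v, hv, by simp⟩
  have h2 : m * ⟨k⁻¹ * v * k, hV' hv1⟩ * m⁻¹ ∈ ((m • Q : Sylow 2 N) : Subgroup N) :=
    ⟨_, hQ (mem_subgroupOf.2 hv1), rfl⟩
  rw [hm] at h2
  have h3 := hkR _ (hR' (mem_map_of_mem N.subtype h2))
  simpa [mul_assoc] using h3

variable (hS : Cfsg.IsStronglyClosed S (T : Subgroup G))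

/-- **Induction on fusion.** A symmetric transitive relation on `T` which holds for conjugations
by `N(S)` and by movers of subgroups of `T` holds for all fusion in `T`. -/
theorem fusion_induction (Rel : G → G → Prop)
    (hsymm : ∀ x y, x ∈ (T : Subgroup G) → y ∈ (T : Subgroup G) → Rel x y → Rel y x)
    (htrans : ∀ x y z, x ∈ (T : Subgroup G) → y ∈ (T : Subgroup G) → z ∈ (T : Subgroup G) →
      Rel x y → Rel y z → Rel x z)
    (hnorm : ∀ n ∈ normalizer (S : Set G), ∀ x ∈ (T : Subgroup G),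
      n * x * n⁻¹ ∈ (T : Subgroup G) → Rel x (n * x * n⁻¹))
    (hstep : ∀ (U : Subgroup G) (hU : U ≤ T),
      (∃ P : Sylow 2 ↥(movers S U (hU.trans (sylow_le_normalizer hS))),
        P.toSubgroup.map (Subgroup.subtype _) ≤ (T : Subgroup G)) →
      ∀ a ∈ movers S U (hU.trans (sylow_le_normalizer hS)), ∀ x ∈ U, Rel x (a * x * a⁻¹))
    {g x : G} (hx : x ∈ (T : Subgroup G)) (hgx : g * x * g⁻¹ ∈ (T : Subgroup G)) :
    Rel x (g * x * g⁻¹) := by
  haveI : Fact (Nat.Prime 2) := ⟨Nat.prime_two⟩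
  suffices key : ∀ U : Subgroup G, U ≤ T → ∀ h : G, (∀ u ∈ U, h * u * h⁻¹ ∈ (T : Subgroup G)) →
      ∀ u ∈ U, Rel u (h * u * h⁻¹) by
    refine key (zpowers x) (zpowers_le.2 hx) g ?_ x (mem_zpowers x)
    rintro _ ⟨j, rfl⟩
    have h2 := zpow_mem hgx j
    rwa [conj_zpow] at h2
  intro U
  induction hn : Nat.card T - Nat.card U using Nat.strong_induction_on generalizing U with
  | _ n ih =>
  intro hUT h hh
  have hT2 : IsPGroup 2 (T : Subgroup G) := T.isPGroup'
  by_cases hSU : S ≤ U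
  · exact fun u hu => hnorm h (mem_normalizer_of_maps fun s hs => hS.2 s hs h (hh s (hSU hs))) u
      (hUT hu) (hh u hu)
  -- larger subgroups
  have hbig : ∀ V : Subgroup G, V ≤ T → Nat.card U < Nat.card V →
      ∀ d : G, (∀ v ∈ V, d * v * d⁻¹ ∈ (T : Subgroup G)) → ∀ v ∈ V, Rel v (d * v * d⁻¹) := by
    intro V hV hcard
    refine ih (Nat.card T - Nat.card V) ?_ V rfl hV
    have := Subgroup.card_le_of_le hV
    omega
  have hcardU : ∀ d : G, Nat.card (U.map (MulAut.conj d).toMonoidHom) = Nat.card U := fun d =>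
    Subgroup.card_map_of_injective (MulAut.conj d).injective
  have hnotS : ∀ d : G, (∀ u ∈ U, d * u * d⁻¹ ∈ (T : Subgroup G)) →
      ¬ S ≤ U.map (MulAut.conj d).toMonoidHom := by
    intro d _ hle
    refine hSU fun s hs => ?_
    have hd : d⁻¹ ∈ normalizer (S : Set G) := mem_normalizer_of_maps fun r hr => by
      obtain ⟨u, hu, e⟩ := hle hr
      have e' : d⁻¹ * r * d⁻¹⁻¹ = u := by rw [← e]; simp [mul_assoc]
      exact hS.2 r hr d⁻¹ (e' ▸ hUT hu)
    have hds := (mem_normalizer_iff.1 (inv_mem hd) s).1 hs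
    rw [inv_inv] at hds
    obtain ⟨u, hu, e⟩ := hle hds
    have e' : d * u * d⁻¹ = d * s * d⁻¹ := e
    rw [← mul_left_cancel (mul_right_cancel e')]
    exact hu
  have hgrow : ∀ d : G, (∀ u ∈ U, d * u * d⁻¹ ∈ (T : Subgroup G)) →
      Nat.card U < Nat.card ((T : Subgroup G) ⊓ normalizer
        ((U.map (MulAut.conj d).toMonoidHom : Subgroup G) : Set G) : Subgroup G) := by
    intro d hd
    have hle : U.map (MulAut.conj d).toMonoidHom ≤ T := by
      rintro _ ⟨u, hu, rfl⟩; exact hd u hu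
    obtain ⟨y, hy, hyU, hyn⟩ := exists_mem_normalizer hS hle (hnotS d hd)
    rw [← hcardU d]
    refine lt_of_le_of_ne (Subgroup.card_le_of_le (le_inf hle Subgroup.le_normalizer)) fun e => hyU ?_
    rw [Subgroup.eq_of_le_of_card_ge (le_inf hle Subgroup.le_normalizer) e.ge]
    exact ⟨hS.1 hy, hyn⟩
  obtain ⟨k, hfull, hk⟩ := exists_fullyNormal (T := T) hUT
  have hone : U.map (MulAut.conj (1 : G)).toMonoidHom = U := by
    ext v; simp [Subgroup.mem_map]
  have hkU : ∀ u ∈ U, k * u * k⁻¹ ∈ (T : Subgroup G) := fun u hu =>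
    hk u ⟨hUT hu, Subgroup.le_normalizer hu⟩
  have hUk : ∀ u ∈ U, Rel u (k * u * k⁻¹) := by
    have := hgrow 1 (fun u hu => by simpa using hUT hu)
    rw [hone] at this
    exact fun u hu => hbig _ inf_le_left this k hk u ⟨hUT hu, Subgroup.le_normalizer hu⟩
  -- the fully normalised conjugate
  set W := U.map (MulAut.conj k).toMonoidHom with hWdef
  have hWT : W ≤ T := by rintro _ ⟨u, hu, rfl⟩; exact hkU u hu
  have hcardW : Nat.card W = Nat.card U := hcardU k
  have hcore : ∀ m ∈ normalizer (W : Set G), ∀ w ∈ W, Rel w (m * w * m⁻¹) := by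
    set M := movers S W (hWT.trans (sylow_le_normalizer hS)) with hMdef
    have hMN : M ≤ normalizer (W : Set G) := fun a ha => ha.1
    have hP2 : IsPGroup 2 (((T : Subgroup G) ⊓ M).subgroupOf M) :=
      (T.isPGroup'.to_le inf_le_left).comap_subtype
    obtain ⟨P, hP⟩ := hP2.exists_le_sylow
    have hPeq : (P : Subgroup M).map M.subtype = (T : Subgroup G) ⊓ M := by
      symm
      refine Subgroup.eq_of_le_of_card_ge ?_ ?_
      · intro v hv
        exact mem_map_of_mem M.subtype (x := (⟨v, hv.2⟩ : M)) (hP (mem_subgroupOf.2 hv))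
      · obtain ⟨m, hm, hmv⟩ := hfull ((P : Subgroup M).map M.subtype)
          ((Subgroup.map_subtype_le _).trans hMN) (P.isPGroup'.map _)
        rw [← Subgroup.card_map_of_injective (f := (MulAut.conj m).toMonoidHom) (MulAut.conj m).injective]
        refine Subgroup.card_le_of_le ?_
        rintro _ ⟨v, hv, rfl⟩
        refine ⟨hmv v hv, ?_⟩
        obtain ⟨a, -, rfl⟩ := hv
        refine ⟨mul_mem (mul_mem hm a.2.1) (inv_mem hm), fun w hw => ?_⟩
        have hw' := (mem_normalizer_iff.1 (inv_mem hm) w).1 hw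
        rw [inv_inv] at hw'
        have h1 := a.2.2 _ hw'
        have hmemW : (a : G) * (m⁻¹ * w * m) * (a : G)⁻¹ * (m⁻¹ * w * m)⁻¹ ∈ W :=
          mul_mem ((mem_normalizer_iff.1 a.2.1 _).1 hw') (inv_mem hw')
        have h2 := (mem_normalizer_iff.1 hm _).1 hmemW
        have h3 := hS.2 _ h1 m (hWT h2)
        show m * (a : G) * m⁻¹ * w * (m * (a : G) * m⁻¹)⁻¹ * w⁻¹ ∈ S
        convert h3 using 1
        group
    have hMn : (M.subgroupOf (normalizer (W : Set G))).Normal := by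
      refine ⟨fun a ha b => mem_subgroupOf.2 ⟨mul_mem (mul_mem b.2 a.2) (inv_mem b.2), fun w hw => ?_⟩⟩
      have hw' := (mem_normalizer_iff.1 (inv_mem b.2) w).1 hw
      rw [inv_inv] at hw'
      have h1 := (mem_subgroupOf.1 ha).2 _ hw'
      have hmemW : (a : G) * ((b : G)⁻¹ * w * b) * (a : G)⁻¹ * ((b : G)⁻¹ * w * b)⁻¹ ∈ W :=
        mul_mem ((mem_normalizer_iff.1 a.2 _).1 hw') (inv_mem hw')
      have h2 := (mem_normalizer_iff.1 b.2 _).1 hmemW
      have h3 := hS.2 _ h1 (b : G) (hWT h2)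
      show (b : G) * (a : G) * (b : G)⁻¹ * w * ((b : G) * (a : G) * (b : G)⁻¹)⁻¹ * w⁻¹ ∈ S
      convert h3 using 1
      group
    obtain ⟨y, hy, hyW, hyn⟩ := exists_mem_normalizer hS hWT (hnotS k hkU)
    intro m hm w hw
    -- Frattini in the normaliser
    haveI := hMn
    set N := normalizer (W : Set G) with hNdef
    set P' := P.mapSurjective (f := (Subgroup.subgroupOfEquivOfLe hMN).symm.toMonoidHom)
      (Subgroup.subgroupOfEquivOfLe hMN).symm.surjective with hP'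
    have hP'co : (P' : Subgroup (M.subgroupOf N)) =
        (P : Subgroup M).map (Subgroup.subgroupOfEquivOfLe hMN).symm.toMonoidHom := rfl
    have htop := Sylow.normalizer_sup_eq_top P'
    have hmem : (⟨m, hm⟩ : N) ∈ (⊤ : Subgroup N) := mem_top _
    rw [← htop] at hmem
    obtain ⟨b, hb, a, ha, hba⟩ := Subgroup.mem_sup_of_normal_right.1 hmem
    have hba' : (b : G) * (a : G) = m := congrArg Subtype.val hba
    have haM : (a : G) ∈ M := mem_subgroupOf.1 ha
    have hw' : (a : G) * w * (a : G)⁻¹ ∈ W := (mem_normalizer_iff.1 a.2 w).1 hw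
    have h1 : Rel w ((a : G) * w * (a : G)⁻¹) :=
      hstep W hWT ⟨P, hPeq.le.trans inf_le_left⟩ _ haM w hw
    -- `b` normalises the larger group
    set V := W ⊔ ((T : Subgroup G) ⊓ M) with hV
    have hVT : V ≤ T := sup_le hWT inf_le_left
    have hVcard : Nat.card U < Nat.card V := by
      rw [← hcardW]
      refine lt_of_le_of_ne (Subgroup.card_le_of_le le_sup_left) fun e => hyW ?_
      rw [Subgroup.eq_of_le_of_card_ge (le_sup_left : W ≤ V) e.ge]
      exact mem_sup_right ⟨hS.1 hy, mem_movers_of_mem hS hWT hy hyn⟩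
    have hbP : ∀ v ∈ (T : Subgroup G) ⊓ M, (b : G) * v * (b : G)⁻¹ ∈ (T : Subgroup G) ⊓ M := by
      intro v hv
      rw [← hPeq] at hv ⊢
      obtain ⟨v, hvP, rfl⟩ := hv
      have hv' : (⟨⟨(v : G), hMN v.2⟩, mem_subgroupOf.2 v.2⟩ : M.subgroupOf N) ∈
          (P' : Subgroup _) := by
        rw [hP'co]
        exact ⟨v, hvP, Subtype.ext (Subtype.ext rfl)⟩
      have h2 := (mem_normalizer_iff.1 hb (⟨(v : G), hMN v.2⟩ : N)).1 ⟨_, hv', rfl⟩
      obtain ⟨u, hu, hue⟩ := h2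
      rw [SetLike.mem_coe, hP'co] at hu
      obtain ⟨u', hu', rfl⟩ := hu
      exact ⟨u', hu', congrArg Subtype.val hue⟩
    have hbV : ∀ v ∈ V, (b : G) * v * (b : G)⁻¹ ∈ V := by
      intro v hv
      have hle : V.map (MulAut.conj (b : G)).toMonoidHom ≤ V := by
        rw [hV, Subgroup.map_sup]
        refine sup_le_sup ?_ ?_
        · rintro _ ⟨u, hu, rfl⟩; exact (mem_normalizer_iff.1 b.2 u).1 hu
        · rintro _ ⟨u, hu, rfl⟩; exact hbP u hu
      exact hle ⟨v, hv, rfl⟩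
    have h2 := hbig V hVT hVcard b (fun v hv => hVT (hbV v hv)) _ (mem_sup_left hw')
    have e : (b : G) * ((a : G) * w * (a : G)⁻¹) * (b : G)⁻¹ = m * w * m⁻¹ := by
      rw [← hba']; group
    rw [e] at h2
    exact htrans _ _ _ (hWT hw) (hWT hw') (hWT ((mem_normalizer_iff.1 hm w).1 hw)) h1 h2
  -- the image under `h`
  intro u hu
  set X := U.map (MulAut.conj h).toMonoidHom with hX
  have hXN : ((T : Subgroup G) ⊓ normalizer (X : Set G)).map (MulAut.conj (k * h⁻¹)).toMonoidHom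
      ≤ normalizer (W : Set G) := by
    rintro _ ⟨v, hv, rfl⟩
    refine mem_normalizer_of_maps ?_
    rintro _ ⟨r, hr, rfl⟩
    obtain ⟨r', hr', e⟩ := (mem_normalizer_iff.1 hv.2 (h * r * h⁻¹)).1 ⟨r, hr, rfl⟩
    refine ⟨r', hr', ?_⟩
    show k * r' * k⁻¹ = k * h⁻¹ * v * (k * h⁻¹)⁻¹ * (k * r * k⁻¹) * (k * h⁻¹ * v * (k * h⁻¹)⁻¹)⁻¹
    have e' : h * r' * h⁻¹ = v * (h * r * h⁻¹) * v⁻¹ := e
    rw [show r' = h⁻¹ * (h * r' * h⁻¹) * h by group, e']
    group
  obtain ⟨m, hm, hmV⟩ := hfull _ hXN ((T.isPGroup'.to_le inf_le_left).map _)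
  have hu' : h * u * h⁻¹ ∈ (T : Subgroup G) ⊓ normalizer (X : Set G) :=
    ⟨hh u hu, Subgroup.le_normalizer ⟨u, hu, rfl⟩⟩
  have h3 : Rel (h * u * h⁻¹) ((m * (k * h⁻¹)) * (h * u * h⁻¹) * (m * (k * h⁻¹))⁻¹) := by
    refine hbig _ inf_le_left (hgrow h hh) (m * (k * h⁻¹)) (fun v hv => ?_) _ hu'
    have := hmV _ ⟨v, hv, rfl⟩
    simpa [mul_assoc] using this
  rw [show m * (k * h⁻¹) * (h * u * h⁻¹) * (m * (k * h⁻¹))⁻¹ = m * (k * u * k⁻¹) * m⁻¹ by group] at h3
  have hku : k * u * k⁻¹ ∈ W := ⟨u, hu, rfl⟩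
  have hmku := hWT ((mem_normalizer_iff.1 hm _).1 hku)
  exact htrans _ _ _ (hUT hu) hmku (hh u hu)
    (htrans _ _ _ (hUT hu) (hkU u hu) hmku (hUk u hu) (hcore m hm _ hku))
    (hsymm _ _ (hh u hu) hmku h3)

include hS in
/-- **Fusion modulo a strongly closed subgroup is controlled by its normaliser.** -/
theorem exists_normalizer_mod {g x : G} (hx : x ∈ (T : Subgroup G))
    (hgx : g * x * g⁻¹ ∈ (T : Subgroup G)) :
    ∃ n ∈ normalizer (S : Set G), n * x * n⁻¹ ∈ (T : Subgroup G) ∧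
      g * x * g⁻¹ * (n * x * n⁻¹)⁻¹ ∈ S := by
  refine fusion_induction hS (fun a b => ∃ n ∈ normalizer (S : Set G),
    n * a * n⁻¹ ∈ (T : Subgroup G) ∧ b * (n * a * n⁻¹)⁻¹ ∈ S) ?_ ?_ ?_ ?_ hx hgx
  · rintro a b ha - ⟨n, hn, -, hb⟩
    have hs := (mem_normalizer_iff.1 (inv_mem hn) _).1 hb
    rw [inv_inv, show n⁻¹ * (b * (n * a * n⁻¹)⁻¹) * n = n⁻¹ * b * n * a⁻¹ by group] at hs
    refine ⟨n⁻¹, inv_mem hn, ?_, ?_⟩
    · have := mul_mem (hS.1 hs) ha
      simpa [mul_assoc] using this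
    · simpa [mul_assoc] using inv_mem hs
  · rintro a b c - - - ⟨n, hn, hnT, hb⟩ ⟨m, hm, hmT, hc⟩
    have hs := (mem_normalizer_iff.1 hm _).1 hb
    refine ⟨m * n, mul_mem hm hn, ?_, ?_⟩
    · have := mul_mem (inv_mem (hS.1 hs)) hmT
      rwa [show (m * (b * (n * a * n⁻¹)⁻¹) * m⁻¹)⁻¹ * (m * b * m⁻¹)
        = m * n * a * (m * n)⁻¹ by group] at this
    · have := mul_mem hc hs
      rwa [show c * (m * b * m⁻¹)⁻¹ * (m * (b * (n * a * n⁻¹)⁻¹) * m⁻¹)
        = c * (m * n * a * (m * n)⁻¹)⁻¹ by group] at this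
  · intro n hn a _ hna
    exact ⟨n, hn, hna, by rw [mul_inv_cancel]; exact one_mem _⟩
  · intro U hU _ a ha y hy
    exact ⟨1, one_mem _, by simpa using hU hy, by simpa using ha.2 y hy⟩

end

end Cfsg.Agent.StrongClosedNC
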