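import Cfsg.Agent.Lib.StrongClosedNC.Quaternion
import Cfsg.Agent.Lib.StrongClosedNC.Image
import Cfsg.Agent.Lib.ClosedPair.Product
import Cfsg.Agent.Lib.ZStar.Apply
import Cfsg.Agent.Lib.ZStarPrimePower.Proved
/-!
# Strongly closed 2-subgroups with one involution (owner: helper2)

* `cent_stronglyClosed` : `C_T(S)` is strongly closed
* `conj_mem_sup` : fusion by `N(S)` is trivial modulo `C_T(S) S`
* `inf_normalClosure_le_of_unique` : `S = T ∩ ⟨S^G⟩`
-/

set_option autoImplicit false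
set_option linter.style.haveILetI false
set_option linter.unusedSectionVars false

namespace Cfsg.Agent.StrongClosedNC

open Subgroup

universe u

variable {G : Type u} [Group G] [Finite G] {T : Sylow 2 G} {S : Subgroup G}
  (hS : Cfsg.IsStronglyClosed S (T : Subgroup G))
  (hu : ∀ x y, x ∈ S → y ∈ S → x * x = 1 → y * y = 1 → x ≠ 1 → y ≠ 1 → x = y)

include hu in
omit [Finite G] in
theorem unique_subgroup {V : Subgroup G} (hV : V ≤ S) (x y : V) (hx : x * x = 1) (hy : y * y = 1)
    (hx1 : x ≠ 1) (hy1 : y ≠ 1) : x = y :=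
  Subtype.ext (hu _ _ (hV x.2) (hV y.2) (congrArg Subtype.val hx) (congrArg Subtype.val hy)
    (fun e => hx1 (Subtype.ext e)) (fun e => hy1 (Subtype.ext e)))

include hS hu in
/-- `C_T(S)` is strongly closed. -/
theorem cent_stronglyClosed :
    Cfsg.IsStronglyClosed ((T : Subgroup G) ⊓ centralizer (S : Set G)) (T : Subgroup G) := by
  haveI : Fact (Nat.Prime 2) := ⟨Nat.prime_two⟩
  refine ⟨inf_le_left, fun x hx g hgx => ⟨hgx, ?_⟩⟩
  refine (fusion_induction hS (fun a b => a ∈ centralizer (S : Set G) ↔ b ∈ centralizer (S : Set G))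
    (fun a b _ _ h => h.symm) (fun a b c _ _ _ h h' => h.trans h') ?_ ?_ hx.1 hgx).1 hx.2
  · intro n hn a _ _
    have key : ∀ n ∈ normalizer (S : Set G), ∀ a ∈ centralizer (S : Set G),
        n * a * n⁻¹ ∈ centralizer (S : Set G) := by
      intro n hn a ha
      refine mem_centralizer_iff.2 fun s hs => ?_
      have hs' := (mem_normalizer_iff.1 (inv_mem hn) s).1 hs
      rw [inv_inv] at hs'
      have h := congrArg (fun w => n * w * n⁻¹) (mem_centralizer_iff.1 ha _ hs')
      calc s * (n * a * n⁻¹) = n * (n⁻¹ * s * n * a) * n⁻¹ := by group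
        _ = n * (a * (n⁻¹ * s * n)) * n⁻¹ := h
        _ = n * a * n⁻¹ * s := by group
    refine ⟨key n hn a, fun h => ?_⟩
    have := key n⁻¹ (inv_mem hn) _ h
    simpa [mul_assoc] using this
  intro U hU hsyl a ha y hy
  set M := movers S U (hU.trans (sylow_le_normalizer hS)) with hM
  suffices key : ∀ a ∈ M, ∀ y ∈ U, y ∈ centralizer (S : Set G) →
      a * y * a⁻¹ ∈ centralizer (S : Set G) by
    refine ⟨key a ha y hy, fun h => ?_⟩
    have := key a⁻¹ (inv_mem ha) _ ((mem_normalizer_iff.1 ha.1 y).1 hy) h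
    simpa [mul_assoc] using this
  obtain ⟨P, hP⟩ := hsyl
  clear ha hy a y
  intro a ha y hy hyc
  set V := S ⊓ U with hV
  have hVconj : ∀ b ∈ M, ∀ v ∈ V, b * v * b⁻¹ ∈ V := fun b hb v hv =>
    ⟨hS.2 v hv.1 b (hU ((mem_normalizer_iff.1 hb.1 v).1 hv.2)), (mem_normalizer_iff.1 hb.1 v).1 hv.2⟩
  have hV2 : IsPGroup 2 V := T.isPGroup'.to_le (inf_le_left.trans hS.1)
  by_cases hc : IsCyclic V
  · -- elements of odd order centralise `U`
    have hodd : ∀ b ∈ M, Odd (orderOf b) → ∀ w ∈ U, b * w * b⁻¹ = w := by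
      intro b hb hbo w hw
      have hbV : b ∈ normalizer (V : Set G) := mem_normalizer_of_maps (hVconj b hb)
      set φ := Subgroup.normalizerMonoidHom V (⟨b, hbV⟩ : normalizer (V : Set G)) with hφ
      have hφ1 : φ = 1 := by
        obtain ⟨e, he⟩ := IsPGroup.iff_card.1 hV2
        have h1 : φ ^ orderOf b = 1 := by
          rw [hφ, ← map_pow]
          convert map_one (Subgroup.normalizerMonoidHom V)
          exact Subtype.ext (pow_orderOf_eq_one b)
        have h2 : φ ^ (2 ^ e) = 1 := by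
          refine orderOf_dvd_iff_pow_eq_one.1 ((orderOf_dvd_natCard φ).trans ?_)
          rw [IsCyclic.card_mulAut, he]
          rcases e with _ | e
          · simp
          · rw [Nat.totient_prime_pow_succ Nat.prime_two]
            simp [pow_succ]
        exact orderOf_eq_one_iff.1 (Nat.eq_one_of_dvd_coprimes
          ((Nat.coprime_two_right.2 hbo).pow_right e) (orderOf_dvd_of_pow_eq_one h1)
          (orderOf_dvd_of_pow_eq_one h2))
      set s := b * w * b⁻¹ * w⁻¹ with hsdef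
      have hsV : s ∈ V :=
        ⟨hb.2 w hw, U.mul_mem ((mem_normalizer_iff.1 hb.1 w).1 hw) (U.inv_mem hw)⟩
      have hfix : b * s * b⁻¹ = s := by
        have := congrArg (fun ψ : MulAut V => ((ψ ⟨s, hsV⟩ : V) : G)) hφ1
        simpa [hφ] using this
      have hpow : ∀ k : ℕ, b ^ k * w * (b ^ k)⁻¹ = s ^ k * w := by
        intro k
        induction k with
        | zero => simp
        | succ k ih =>
          calc b ^ (k + 1) * w * (b ^ (k + 1))⁻¹ = b * (b ^ k * w * (b ^ k)⁻¹) * b⁻¹ := by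
                rw [pow_succ']; group
            _ = (b * s * b⁻¹) ^ k * (b * w * b⁻¹) := by rw [ih, conj_pow]; group
            _ = s ^ (k + 1) * w := by
                rw [hfix, pow_succ, show b * w * b⁻¹ = s * w by rw [hsdef]; group]; group
      have h1 := hpow (orderOf b)
      rw [pow_orderOf_eq_one, one_mul, inv_one, mul_one] at h1
      have hs1 : s ^ orderOf b = 1 := mul_right_cancel (h1.symm.trans (one_mul w).symm)
      obtain ⟨e, he⟩ := IsPGroup.iff_orderOf.1 hV2 ⟨s, hsV⟩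
      rw [← Subgroup.orderOf_coe] at he
      have : s = 1 := orderOf_eq_one_iff.1 (Nat.eq_one_of_dvd_coprimes
        ((Nat.coprime_two_left.2 hbo).pow_left e) (he ▸ dvd_rfl) (orderOf_dvd_of_pow_eq_one hs1))
      exact mul_inv_eq_one.1 this
    -- so `M = (T ∩ M) C_M(U)`
    set C := (centralizer (U : Set G)).subgroupOf M with hC
    haveI hCn : C.Normal := by
      refine ⟨fun c hc b => mem_subgroupOf.2 (mem_centralizer_iff.2 fun w hw => ?_)⟩
      have hw' := (mem_normalizer_iff.1 (inv_mem b.2.1) w).1 hw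
      rw [inv_inv] at hw'
      have h := congrArg (fun v => (b : G) * v * (b : G)⁻¹)
        (mem_centralizer_iff.1 (mem_subgroupOf.1 hc) _ hw')
      show w * ((b : G) * (c : G) * (b : G)⁻¹) = (b : G) * (c : G) * (b : G)⁻¹ * w
      calc w * ((b : G) * (c : G) * (b : G)⁻¹)
          = (b : G) * ((b : G)⁻¹ * w * b * c) * (b : G)⁻¹ := by group
        _ = (b : G) * ((c : G) * ((b : G)⁻¹ * w * b)) * (b : G)⁻¹ := h
        _ = _ := by group
    have hq : IsPGroup 2 (↥M ⧸ C) := by
      intro q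
      obtain ⟨b, rfl⟩ := QuotientGroup.mk_surjective q
      obtain ⟨k, m, hm, hkm⟩ := Nat.exists_eq_two_pow_mul_odd (n := orderOf b) (orderOf_pos b).ne'
      refine ⟨k, ?_⟩
      rw [← QuotientGroup.mk_pow, QuotientGroup.eq_one_iff]
      refine mem_subgroupOf.2 (mem_centralizer_iff.2 fun w hw => ?_)
      have ho : Odd (orderOf ((b ^ 2 ^ k : M) : G)) := by
        rw [Subgroup.orderOf_coe, orderOf_pow_of_dvd (pow_ne_zero _ two_ne_zero) (hkm ▸ dvd_mul_right _ _),
          hkm, Nat.mul_div_cancel_left _ (pow_pos two_pos _)]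
        exact hm
      exact (mul_inv_eq_iff_eq_mul.1 (hodd _ (b ^ 2 ^ k).2 ho w hw)).symm
    have hsup : (P : Subgroup M) ⊔ C = ⊤ := by
      rw [← Subgroup.index_eq_one]
      obtain ⟨e, he⟩ := IsPGroup.iff_card.1 hq
      have h1 : ((P : Subgroup M) ⊔ C).index ∣ 2 ^ e := he ▸ Subgroup.index_dvd_of_le le_sup_right
      have h2 : ((P : Subgroup M) ⊔ C).index ∣ (P : Subgroup M).index := Subgroup.index_dvd_of_le le_sup_left
      exact Nat.eq_one_of_dvd_coprimes ((Nat.Prime.coprime_pow_of_not_dvd Nat.prime_two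
        P.not_dvd_index).symm) h1 h2
    have hmem : (⟨a, ha⟩ : M) ∈ (P : Subgroup M) ⊔ C := hsup ▸ mem_top _
    obtain ⟨r, hr, c, hcC, e⟩ := Subgroup.mem_sup_of_normal_right.1 hmem
    have e' : (r : G) * (c : G) = a := congrArg Subtype.val e
    have hcy : (c : G) * y * (c : G)⁻¹ = y :=
      mul_inv_eq_iff_eq_mul.2 (mem_centralizer_iff.1 (mem_subgroupOf.1 hcC) y hy).symm
    have hrT : (r : G) ∈ (T : Subgroup G) := hP (mem_map_of_mem _ hr)
    rw [← e', show (r : G) * c * y * ((r : G) * c)⁻¹ = r * ((c : G) * y * (c : G)⁻¹) * (r : G)⁻¹ by group,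
      hcy]
    refine mem_centralizer_iff.2 fun s hs => ?_
    have hs' := (mem_normalizer_iff.1 (inv_mem (sylow_le_normalizer hS hrT)) s).1 hs
    rw [inv_inv] at hs'
    calc s * ((r : G) * y * (r : G)⁻¹) = (r : G) * ((r : G)⁻¹ * s * r * y) * (r : G)⁻¹ := by group
      _ = (r : G) * (y * ((r : G)⁻¹ * s * r)) * (r : G)⁻¹ := by rw [mem_centralizer_iff.1 hyc _ hs']
      _ = _ := by group
  · set s := a * y * a⁻¹ * y⁻¹ with hsdef
    have hsV : s ∈ V := ⟨ha.2 y hy, U.mul_mem ((mem_normalizer_iff.1 ha.1 y).1 hy) (U.inv_mem hy)⟩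
    have hsc : ∀ v ∈ V, Commute s v := by
      intro v hv
      have h1 : Commute v y := mem_centralizer_iff.1 hyc v hv.1
      have hv' := hVconj a⁻¹ (inv_mem ha) v hv
      rw [inv_inv] at hv'
      have h2 : Commute v (a * y * a⁻¹) := by
        have h : a⁻¹ * v * a * y = y * (a⁻¹ * v * a) := mem_centralizer_iff.1 hyc _ hv'.1
        show v * (a * y * a⁻¹) = a * y * a⁻¹ * v
        calc v * (a * y * a⁻¹) = a * (a⁻¹ * v * a * y) * a⁻¹ := by group
          _ = a * (y * (a⁻¹ * v * a)) * a⁻¹ := by rw [h]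
          _ = _ := by group
      exact (h2.mul_right h1.inv_right).symm
    have hs2 : s * s = 1 := congrArg Subtype.val (sq_eq_one_of_central hV2
      (unique_subgroup hu inf_le_left) hc (c := ⟨s, hsV⟩) fun v => Subtype.ext (hsc v v.2))
    refine mem_centralizer_iff.2 fun r hr => ?_
    have hrs : r * s = s * r := by
      rcases eq_or_ne s 1 with h | h
      · rw [h, mul_one, one_mul]
      have h' : r * s * r⁻¹ = s := hu _ _ (mul_mem (mul_mem hr hsV.1) (inv_mem hr)) hsV.1
        (by rw [show r * s * r⁻¹ * (r * s * r⁻¹) = r * (s * s) * r⁻¹ by group, hs2]; group) hs2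
        (fun e => h (conj_eq_one_iff.1 e)) h
      exact mul_inv_eq_iff_eq_mul.1 h'
    have : a * y * a⁻¹ = s * y := by rw [hsdef]; group
    calc r * (a * y * a⁻¹) = r * s * y := by rw [this]; group
      _ = s * (r * y) := by rw [hrs]; group
      _ = s * (y * r) := by rw [mem_centralizer_iff.1 hyc r hr]
      _ = a * y * a⁻¹ * r := by rw [this]; group

include hS hu in
/-- Fusion by `N(S)` is trivial modulo `C_T(S) S`. -/
theorem conj_mem_sup (hc : ¬ IsCyclic S) {n x : G} (hn : n ∈ normalizer (S : Set G))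
    (hx : x ∈ (T : Subgroup G)) (hnx : n * x * n⁻¹ ∈ (T : Subgroup G)) :
    n * x * n⁻¹ * x⁻¹ ∈ ((T : Subgroup G) ⊓ centralizer (S : Set G)) ⊔ S := by
  set N := normalizer (S : Set G) with hN
  set φ := Subgroup.normalizerMonoidHom S
  have hTN := sylow_le_normalizer hS
  have hP : IsPGroup 2 (((T : Subgroup G).subgroupOf N).map φ) := T.isPGroup'.comap_subtype.map φ
  have hy : (⟨n, hn⟩ : N) * ⟨x, hTN hx⟩ * (⟨n, hn⟩ : N)⁻¹ = ⟨n * x * n⁻¹, hTN hnx⟩ := rfl
  obtain ⟨w, hw⟩ := exists_inner (T.isPGroup'.to_le hS.1) (unique_subgroup hu le_rfl) hc hP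
    (α := φ ⟨x, hTN hx⟩) (β := φ ⟨n, hn⟩) (mem_map_of_mem φ (mem_subgroupOf.2 hx))
    (by rw [← map_inv, ← map_mul, ← map_mul, hy]; exact mem_map_of_mem φ (mem_subgroupOf.2 hnx))
  rw [← map_inv, ← map_mul, ← map_mul, ← map_inv, ← map_mul, hy] at hw
  set v := n * x * n⁻¹ * x⁻¹ with hv
  have hconj : ∀ s ∈ S, v * s * v⁻¹ = (w : G) * s * (w : G)⁻¹ := fun s hs => by
    have := congrArg (fun ψ : MulAut S => ((ψ ⟨s, hs⟩ : S) : G)) hw
    simpa [φ, hv, mul_assoc] using this.symm
  have hb : (w : G)⁻¹ * v ∈ centralizer (S : Set G) := by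
    refine mem_centralizer_iff.2 fun s hs => ?_
    have h := hconj s hs
    calc s * ((w : G)⁻¹ * v) = (w : G)⁻¹ * ((w : G) * s * (w : G)⁻¹) * v := by group
      _ = (w : G)⁻¹ * (v * s * v⁻¹) * v := by rw [h]
      _ = _ := by group
  have := mul_mem (mem_sup_right w.2 : (w : G) ∈ ((T : Subgroup G) ⊓ centralizer (S : Set G)) ⊔ S)
    (mem_sup_left (⟨(T : Subgroup G).mul_mem ((T : Subgroup G).inv_mem (hS.1 w.2))
      ((T : Subgroup G).mul_mem hnx ((T : Subgroup G).inv_mem hx)), hb⟩ :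
      (w : G)⁻¹ * v ∈ (T : Subgroup G) ⊓ centralizer (S : Set G)))
  rwa [mul_inv_cancel_left] at this

include hS hu in
/-- The quaternion case with a central involution. -/
theorem inf_le_of_central (hO : Cfsg.pPrimeCore 2 G = ⊥) (hc : ¬ IsCyclic S) {z : G} (hz : z ∈ S)
    (hz2 : orderOf z = 2) (hzc : z ∈ center G) :
    (T : Subgroup G) ⊓ normalClosure (S : Set G) ≤ S := by
  haveI : Fact (Nat.Prime 2) := ⟨Nat.prime_two⟩
  set B := (T : Subgroup G) ⊓ centralizer (S : Set G) with hBdef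
  set K := normalClosure (S : Set G) with hK
  have hB := cent_stronglyClosed hS hu
  set Z := zpowers z with hZ
  haveI : Z.Normal := ⟨fun m hm g => by
    rwa [mem_center_iff.1 ((zpowers_le.2 hzc) hm) g, mul_inv_cancel_right]⟩
  set f := QuotientGroup.mk' Z
  have hf : Function.Surjective f := QuotientGroup.mk'_surjective Z
  -- the product theorem modulo `z`
  have hd : B.map f ⊓ S.map f = ⊥ := by
    refine eq_bot_iff.2 ?_
    rintro _ ⟨⟨b, hb, rfl⟩, s, hs, e⟩
    have hbs : s⁻¹ * b ∈ Z := QuotientGroup.eq.1 e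
    have hbS : b ∈ S := by
      have := mul_mem hs ((zpowers_le.2 hz : Z ≤ S) hbs)
      rwa [mul_inv_cancel_left] at this
    have h2 : b * b = 1 := congrArg Subtype.val (sq_eq_one_of_central (T.isPGroup'.to_le hS.1)
      (unique_subgroup hu le_rfl) hc (c := ⟨b, hbS⟩)
      fun r => Subtype.ext (mem_centralizer_iff.1 hb.2 r r.2).symm)
    rw [mem_bot]
    refine (QuotientGroup.eq_one_iff b).2 ?_
    rcases eq_or_ne b 1 with rfl | h1
    · exact one_mem _
    · rw [hu b z hbS hz h2 (by rw [← sq, ← hz2, pow_orderOf_eq_one]) h1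
        (fun e => by rw [e, orderOf_one] at hz2; omega)]
      exact mem_zpowers z
  have hcomm := ClosedPair.commute_normalClosure (T.mapSurjective hf)
    (S₁ := B.map f) (S₂ := S.map f)
    (map_stronglyClosed hB f hf) (map_stronglyClosed hS f hf)
    (by rintro _ ⟨b, hb, rfl⟩ _ ⟨s, hs, rfl⟩
        rw [← map_mul, ← map_mul, mem_centralizer_iff.1 hb.2 s hs])
    hd (ZStar.core_quotient_central hO hzc hz2)
  have hBK : ∀ k ∈ K, ∀ b ∈ B, k * b * k⁻¹ * b⁻¹ ∈ Z := by
    intro k hk b hb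
    have hk' : f k ∈ normalClosure ((S.map f : Subgroup _) : Set (G ⧸ Z)) := by
      have := mem_map_of_mem f hk
      rwa [hK, Subgroup.map_normalClosure _ f hf, ← Subgroup.coe_map] at this
    have h := mem_centralizer_iff.1 (hcomm (subset_normalClosure (mem_map_of_mem f hb))) _ hk'
    refine (QuotientGroup.eq_one_iff _).1 ?_
    show f (k * b * k⁻¹ * b⁻¹) = 1
    rw [map_mul, map_mul, map_mul, h, map_inv, map_inv, mul_inv_cancel_right, mul_inv_cancel]
  have hTN := sylow_le_normalizer hS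
  have hBN : B ≤ normalizer (S : Set G) := inf_le_left.trans hTN
  -- fusion in `K` modulo `B S`
  have h1 : (T : Subgroup G) ⊓ K ≤ B ⊔ S := by
    refine inf_normalClosure_le hS le_sup_right fun k _ x hx _ hkx => ?_
    obtain ⟨n, hn, hnx, h⟩ := exists_normalizer_mod hS hx hkx
    have h2 := conj_mem_sup hS hu hc hn hx hnx
    have := inv_mem (mul_mem (mem_sup_right h : _ ∈ B ⊔ S) h2)
    rwa [show (k * x * k⁻¹ * (n * x * n⁻¹)⁻¹ * (n * x * n⁻¹ * x⁻¹))⁻¹ = x * (k * x * k⁻¹)⁻¹ by group]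
      at this
  refine inf_normalClosure_le hS le_rfl fun k hk x hx hxK hkx => ?_
  have hxm : x ∈ B ⊔ S := h1 ⟨hx, hxK⟩
  rw [← SetLike.mem_coe, Subgroup.coe_mul_of_left_le_normalizer_right B S hBN] at hxm
  obtain ⟨b, hb, s, hs, rfl⟩ := hxm
  have hzb := hBK k hk b hb
  have hkb : k * b * k⁻¹ ∈ (T : Subgroup G) := by
    have := mul_mem (hS.1 ((zpowers_le.2 hz : Z ≤ S) hzb)) hb.1
    rwa [inv_mul_cancel_right] at this
  have hks : k * s * k⁻¹ ∈ S := by
    refine hS.2 s hs k ?_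
    have := mul_mem (inv_mem hkb) hkx
    rwa [show (k * b * k⁻¹)⁻¹ * (k * (b * s) * k⁻¹) = k * s * k⁻¹ by group] at this
  have key : b * s * (k * (b * s) * k⁻¹)⁻¹
      = b * (s * (k * s * k⁻¹)⁻¹) * b⁻¹ * (k * b * k⁻¹ * b⁻¹)⁻¹ := by group
  rw [key]
  exact mul_mem ((mem_normalizer_iff.1 (hBN hb) _).1 (mul_mem hs (inv_mem hks)))
    (inv_mem ((zpowers_le.2 hz : Z ≤ S) hzb))

end Cfsg.Agent.StrongClosedNC
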